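import Cfsg.Agent.DIM4.Quat
import Cfsg.Agent.DIM4.Quad

/-! The residual class in defining characteristic. -/

set_option autoImplicit false

namespace Cfsg.Agent.DIM4

open Matrix

variable {F : Type*} [Field F] [Finite F] {H P : Subgroup (G4 F)}

omit [Finite F] in
theorem pow_four_of_nil {N : M4 F} (h : IsNilpotent N) : N ^ 4 = 0 := by
  have h1 := sub_eq_zero.1 (isNilpotent_charpoly_sub_pow_of_isNilpotent h).eq_zero
  have h2 := aeval_self_charpoly N
  rw [h1] at h2
  simpa using h2

omit [Finite F] in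
/-- The centraliser of a regular nilpotent matrix. -/
theorem comm_reg {N M : M4 F} (h4 : N ^ 4 = 0) (h3 : N ^ 3 ≠ 0) (hc : M * N = N * M) :
    ∃ c : Fin 4 → F, M = ∑ i, c i • N ^ (i : ℕ) := by
  obtain ⟨v, hv⟩ : ∃ v, (N ^ 3) *ᵥ v ≠ 0 := by
    by_contra! hn
    exact h3 (Matrix.toLin'.injective (LinearMap.ext fun v => by
      rw [toLin'_apply, hn, map_zero, LinearMap.zero_apply]))
  have z : ∀ k, (N ^ (k + 4)) *ᵥ v = 0 := fun k => by rw [pow_add, h4, Matrix.mul_zero, zero_mulVec]
  have li : LinearIndependent F fun i : Fin 4 => (N ^ (i : ℕ)) *ᵥ v := by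
    rw [Fintype.linearIndependent_iff]
    intro c hs
    have e : ∀ k, c 0 • (N ^ k) *ᵥ v + c 1 • (N ^ (k + 1)) *ᵥ v + c 2 • (N ^ (k + 2)) *ᵥ v +
        c 3 • (N ^ (k + 3)) *ᵥ v = 0 := fun k => by
      have := congrArg ((N ^ k) *ᵥ ·) hs
      simpa [Fin.sum_univ_four, mulVec_add, mulVec_smul, mulVec_mulVec, pow_add] using this
    have c0 : c 0 = 0 := by simpa [z 0, z 1, z 2, hv] using e 3
    have c1 : c 1 = 0 := by simpa [z 0, z 1, c0, hv] using e 2
    have c2 : c 2 = 0 := by simpa [z 0, c0, c1, hv] using e 1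
    have c3 : c 3 = 0 := by simpa [c0, c1, c2, hv] using e 0
    intro i; fin_cases i <;> assumption
  have sp := li.span_eq_top_of_card_eq_finrank' (by simp)
  obtain ⟨c, hc'⟩ := (Submodule.mem_span_range_iff_exists_fun F).1 (sp ▸ Submodule.mem_top (x := M *ᵥ v))
  refine ⟨c, Matrix.toLin'.injective (LinearMap.ext_on_range sp fun i => ?_)⟩
  rw [toLin'_apply, toLin'_apply, mulVec_mulVec, ((show Commute M N from hc).pow_right i).eq,
    ← mulVec_mulVec, ← hc', sum_mulVec, mulVec_sum]
  refine Finset.sum_congr rfl fun j _ => ?_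
  rw [mulVec_smul, smul_mulVec, mulVec_mulVec, mulVec_mulVec, pow_mul_comm]

omit [Finite F] in
theorem sq_zero_of_cube (h2 : (2 : F) ≠ 0) {g : G4 F} (hg : g ∈ Cfsg.spGL 2 F)
    (h : ((g : M4 F) - 1) ^ 3 = 0) : ((g : M4 F) - 1) ^ 2 = 0 := by
  have ha := adj_coe hg
  obtain ⟨N, hN⟩ : ∃ N, (g : M4 F) = 1 + N := ⟨g - 1, by simp⟩
  rw [hN, add_sub_cancel_left] at h ⊢
  have n3 : N * (N * N) = 0 := by rw [← h]; noncomm_ring
  have n3' : ∀ X, N * (N * (N * X)) = 0 := fun X => by
    rw [← Matrix.mul_assoc N N X, ← Matrix.mul_assoc, n3, Matrix.zero_mul]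
  have hi : ((g⁻¹ : G4 F) : M4 F) = 1 + (N * N - N) := Units.inv_eq_of_mul_eq_one_right (by
    rw [hN]
    simp only [Matrix.add_mul, Matrix.mul_add, Matrix.mul_sub, Matrix.one_mul, Matrix.mul_one, n3]
    abel)
  rw [hi, hN, adj_add, adj_one, add_right_inj] at ha
  have hW : N * N ∈ Wsp F := ⟨by
    rw [adj_mul, ha]
    simp only [Matrix.sub_mul, Matrix.mul_sub, Matrix.mul_assoc, n3, Matrix.mul_zero]
    abel, (isNilpotent_trace_of_isNilpotent ⟨2, by rw [sq, Matrix.mul_assoc, n3']⟩).eq_zero⟩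
  rw [sq]
  refine eq_zero_of_perp h2 hW fun B hB => ?_
  by_contra hb
  have e := congrArg (fun X => N * (X * N)) (anti h2 hW hB)
  simp only [Matrix.add_mul, Matrix.mul_add, Matrix.mul_assoc, n3, n3', Matrix.mul_zero, add_zero,
    Matrix.smul_mul, Matrix.mul_smul, Matrix.one_mul] at e
  rw [(smul_eq_zero.1 e.symm).resolve_left hb] at hb
  exact hb (bW_zero_left B)

theorem Res.defChar (h : Res H P) (ho : OneInv P) {K : Type} [Field K] [Fintype K]
    (hK : Odd (Fintype.card K)) (p : ℕ) [Fact p.Prime] [CharP F p] [CharP K p]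
    (e : P ⧸ ZP P ≃* Matrix.ProjectiveSpecialLinearGroup (Fin 2) K) (d : SL2Data P K) :
    5 ≤ p ∧ Fintype.card K = Nat.card F ∧ ∃ a, ((d.X a : M4 F) - 1) ^ 3 ≠ 0 := by
  have _ := ho
  have hp : p.Prime := Fact.out
  have K2 := two_ne_of_odd hK
  have op : Odd p := hp.odd_of_ne_two fun k => K2 (by subst k; exact CharP.cast_eq_zero K 2)
  set N : K → M4 F := fun a => (d.X a : M4 F) - 1 with hN
  have X0 : d.X 0 = 1 := by simpa using d.X_add 0 0
  have Xn : ∀ a (n : ℕ), d.X a ^ n = d.X (n * a) := fun a n => by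
    induction n with
    | zero => simp [X0]
    | succ n ih => rw [pow_succ, ih, ← d.X_add, Nat.cast_succ, add_mul, one_mul]
  have Np : ∀ a, N a ^ p = 0 := fun a => by
    rw [hN, sub_pow_char_of_commute p (Commute.one_right _), ← Units.val_pow_eq_pow_val, Xn,
      CharP.cast_eq_zero, zero_mul, X0, Units.val_one, one_pow, sub_self]
  have N4 : ∀ a, N a ^ 4 = 0 := fun a => pow_four_of_nil ⟨p, Np a⟩
  have Nadd : ∀ a b, N (a + b) = N a + N b + N a * N b := fun a b => by
    simp only [hN, d.X_add, Units.val_mul]; noncomm_ring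
  have Nc : ∀ a b, N a * N b = N b * N a := fun a b => by
    have := (Nadd a b).symm.trans (add_comm a b ▸ Nadd b a)
    rwa [add_comm (N a), add_right_inj] at this
  obtain ⟨a, ha⟩ : ∃ a, N a ^ 3 ≠ 0 := by
    by_contra! hn
    have s : ∀ a, N a * N a = 0 := fun a => by
      rw [← sq]; exact sq_zero_of_cube h.two (h.le_sp (d.X_mem a)) (hn a)
    refine h.not_quad d fun a b => smul_right_injective _ h.two ?_
    have s1 : ∀ a X, N a * (N a * X) = 0 := fun a X => by rw [← Matrix.mul_assoc, s, Matrix.zero_mul]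
    have c1 : ∀ X, N b * (N a * X) = N a * (N b * X) := fun X => by
      rw [← Matrix.mul_assoc, ← Nc, Matrix.mul_assoc]
    have := s (a + b)
    simp only [Nadd, Matrix.add_mul, Matrix.mul_add, Matrix.mul_assoc, s, s1, c1, Nc b a,
      Matrix.mul_zero, add_zero, zero_add] at this
    change (2 : F) • (N a * N b) = (2 : F) • (0 : M4 F)
    rw [two_smul, smul_zero, this]
  refine ⟨?_, le_antisymm ?_ ?_, a, ha⟩
  · by_contra! hlt
    have h3 : p ≤ 3 := by
      by_contra! k
      exact absurd (show p = 4 by omega ▸ hp) (by decide)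
    exact ha (pow_eq_zero_of_le h3 (Np a))
  · choose c hc using fun b => comm_reg (N4 a) ha (Nc b a)
    have z : ∀ k, N a ^ (k + 4) = 0 := fun k => by rw [pow_add, N4, Matrix.mul_zero]
    have m : ∀ b k, N b * N a ^ k = c b 0 • N a ^ k + c b 1 • N a ^ (k + 1) +
        c b 2 • N a ^ (k + 2) + c b 3 • N a ^ (k + 3) := fun b k => by
      conv_lhs => rw [hc b]
      simp [Fin.sum_univ_four, Matrix.add_mul, ← pow_add, ← pow_succ', add_comm k]
    have c0 : ∀ b, c b 0 = 0 := fun b => by
      have m3 : N b * N a ^ 3 = c b 0 • N a ^ 3 := by simp [m, z 0, z 1, z 2]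
      have : N b ^ 4 * N a ^ 3 = c b 0 ^ 4 • N a ^ 3 := by
        simp only [pow_succ (N b), pow_zero, Matrix.one_mul, Matrix.mul_assoc, m3, Matrix.mul_smul,
          smul_smul]
        congr 1; ring
      rw [N4, Matrix.zero_mul] at this
      exact pow_eq_zero_iff (by decide) |>.1 ((smul_eq_zero.1 this.symm).resolve_right ha)
    have m3 : ∀ b, N b * N a ^ 3 = 0 := fun b => by simp [m, z 0, z 1, z 2, c0]
    have m2 : ∀ b, N b * N a ^ 2 = c b 1 • N a ^ 3 := fun b => by simp [m, z 0, z 1, c0]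
    have add : ∀ b b', c (b + b') 1 = c b 1 + c b' 1 := fun b b' => by
      have := m2 (b + b')
      rw [Nadd, Matrix.add_mul, Matrix.add_mul, Matrix.mul_assoc, m2, m2, Matrix.mul_smul, m3,
        smul_zero, add_zero, ← add_smul] at this
      exact (smul_left_injective F ha this).symm
    let α : K →+ F := AddMonoidHom.mk' (fun b => c b 1) add
    have ker : ∀ b, α b = 0 ↔ N b * N b = 0 := fun b => ⟨fun k => by
      have k' : c b 1 = 0 := k
      have := m b 0
      rw [pow_zero, Matrix.mul_one] at this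
      conv_lhs => enter [2]; rw [this]
      simp [c0, k', m2, m3, Matrix.mul_add], fun k => by
      have := congrArg (N b * ·) (m b 1)
      simp only [← Matrix.mul_assoc, k, c0, z 0, Matrix.mul_add, Matrix.mul_smul, m2, m3,
        Nat.reduceAdd, smul_zero, zero_smul, add_zero, zero_add, Matrix.zero_mul, smul_smul] at this
      exact mul_self_eq_zero.1 ((smul_eq_zero.1 this.symm).resolve_right ha)⟩
    have cj : ∀ {w x y : G4 F}, w * x = y * w →
        (((x : M4 F) - 1) * (x - 1) = 0 ↔ ((y : M4 F) - 1) * (y - 1) = 0) := fun {w x y} k => by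
      have k' : (w : M4 F) * (x - 1) = (y - 1) * w := by
        rw [Matrix.mul_sub, Matrix.sub_mul, ← Units.val_mul, k, Units.val_mul, Matrix.mul_one,
          Matrix.one_mul]
      rw [← Units.mul_right_eq_zero w, ← Matrix.mul_assoc, k', Matrix.mul_assoc, k',
        ← Matrix.mul_assoc, Units.mul_left_eq_zero]
    have sq' : ∀ b t, α b = 0 → α (t ^ 2 * b) = 0 := fun b t k => by
      by_cases ht : t = 0
      · simp [ht]
      have k1 := d.conjX t⁻¹ b (inv_ne_zero ht)
      have k2 := d.conjX 1 (t ^ 2 * b) one_ne_zero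
      rw [inv_inv] at k1
      rw [inv_one, one_pow, one_mul] at k2
      exact (ker _).2 ((cj k2).2 ((cj k1).1 ((ker _).1 k)))
    have inj : Function.Injective α := (injective_iff_map_eq_zero α).2 fun b k => by
      by_contra hb
      refine ha ?_
      rw [pow_succ, sq, (ker a).1, Matrix.zero_mul]
      rw [show a = ((a / b + 1) / 2) ^ 2 * b - ((a / b - 1) / 2) ^ 2 * b by field_simp; ring,
        map_sub, sq' _ _ k, sq' _ _ k, sub_zero]
    rw [← Nat.card_eq_fintype_card]
    exact Nat.card_le_card_of_injective α inj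
  · obtain ⟨n, -, hn⟩ := FiniteField.card K p
    rw [hn]
    refine h.card_le_of_trace n.pos fun g hg => ?_
    have pm : ∀ ε : G4 F, (∀ k, Odd k → ε ^ k = ε) → g ^ p = ε →
        (g : M4 F).trace ^ p ^ (n : ℕ) = (g : M4 F).trace := fun ε h1 h2 => by
      have : (g : M4 F).trace = (ε : M4 F).trace := frobenius_inj F p (by
        rw [frobenius_def, frobenius_def, ← pow_one p, ← trace_pow_char p, ← trace_pow_char p,
          ← Units.val_pow_eq_pow_val, ← Units.val_pow_eq_pow_val, pow_one, h2, h1 p op])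
      rw [this, ← trace_pow_char p, ← Units.val_pow_eq_pow_val, h1 _ op.pow]
    rcases h.pow_cases hK p e hg with k | k | k | k
    · rw [← trace_pow_char p, ← Units.val_pow_eq_pow_val, ← hn,
        ← Nat.sub_add_cancel (Fintype.card_pos (α := K)), pow_succ, k, one_mul]
    · rw [← trace_pow_char p, ← Units.val_pow_eq_pow_val, ← hn,
        eq_inv_of_mul_eq_one_left ((pow_succ _ _).symm.trans k), trace_inv_sp (h.le_sp hg)]
    · exact pm 1 (fun k _ => one_pow k) k
    · exact pm (-1) (fun k hk => hk.neg_one_pow) k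

end Cfsg.Agent.DIM4
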