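import Cfsg.Agent.DIM4.EvBasic
import Cfsg.Agent.DIM4.Cross
import Cfsg.Agent.H10.P3Alt
import Cfsg.Agent.S2475
import Cfsg.Agent.S0493

/-! Project DIM4, even `q`: `A₆`, `7:3` and `L₂(p)` (see `notes/DIM4.md`). -/

set_option autoImplicit false
set_option linter.unusedSectionVars false

namespace Cfsg.Agent.DIM4

open Matrix

open H10.P3 H56 H56.Alt in
theorem EvA6.cls (x : alternatingGroup (Fin 6)) : x ^ 2 ^ 2 = 1 ∨ x ^ 3 = 1 ∨
    IsConj (a6a * a6b) x ∨ IsConj ((a6a * a6b) ^ 2) x := by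
  obtain ⟨c, hc, r, h1, h2, -⟩ := exists_cls a6_classes x
  have p : ∀ n : ℕ, r ^ n = 1 → x ^ n = 1 := fun n e => by
    obtain ⟨c, rfl⟩ := isConj_iff.1 h2
    rw [conj_pow, e]; simp
  have s : ∀ y : alternatingGroup (Fin 6), a6E.pk y = c.X → r = y := fun y e =>
    Subtype.ext (a6E.pk_injective (h1.trans e.symm))
  simp only [a6Cl, List.mem_cons, List.not_mem_nil, or_false] at hc
  rcases hc with rfl | rfl | rfl | rfl | rfl | rfl | rfl
  · exact Or.inl (p _ (by rw [s 1 (by decide +kernel), one_pow]))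
  · exact Or.inl (p _ (by rw [s (al [[0, 1], [2, 3]]) (by decide +kernel)]; decide +kernel))
  · exact Or.inr (Or.inl (p _ (by rw [s (al [[0, 1, 2], [3, 5, 4]]) (by decide +kernel)]; decide +kernel)))
  · exact Or.inr (Or.inl (p _ (by rw [s (al [[0, 1, 2]]) (by decide +kernel)]; decide +kernel)))
  · exact Or.inl (p _ (by rw [s (al [[0, 1, 2, 3], [4, 5]]) (by decide +kernel)]; decide +kernel))
  · exact Or.inr (Or.inr (Or.inl ((isConj_iff.2 ⟨al [[0, 5, 2, 3, 1]], by
      rw [s (al [[0, 1, 2, 3, 4]]) (by decide +kernel)]; decide +kernel⟩).trans h2)))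
  · exact Or.inr (Or.inr (Or.inr ((isConj_iff.2 ⟨al [[0, 4, 2, 5, 1]], by
      rw [s (al [[0, 1, 2, 3, 5]]) (by decide +kernel)]; decide +kernel⟩).trans h2)))

variable {F : Type*} [Field F] [Finite F] {G : Type*} [Group G] {ρ : G →* SpM F}

theorem EvA6.theta (A : M4 F) : (∃ s : F, (A + adj A) * (A + adj A) = A.trace • (A + adj A) - s • 1) ∧
    (A + adj A) (.inl 0) (.inl 0) + (A + adj A) (.inl 1) (.inl 1) = A.trace := by
  rw [← fromBlocks_toBlocks A]
  generalize A.toBlocks₁₁ = a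
  generalize A.toBlocks₁₂ = b
  generalize A.toBlocks₂₁ = c
  generalize A.toBlocks₂₂ = d
  rw [adj_fromBlocks, fromBlocks_add]
  refine ⟨⟨(a 0 0 + d 0 0) * (a 1 1 + d 1 1) - (a 0 1 + d 1 0) * (a 1 0 + d 0 1) +
    (b 0 1 - b 1 0) * (c 0 1 - c 1 0), ?_⟩, ?_⟩
  · ext (i | i) (j | j) <;> fin_cases i <;> fin_cases j <;>
      simp [Matrix.mul_apply, trace, Fin.sum_univ_two] <;> ring
  · simp [trace, Fin.sum_univ_two]; ring

theorem EvA6.five (h2 : (2 : F) = 0) {g : SpM F} (h5 : g ^ 5 = 1) (hf : ∀ v, g.1 *ᵥ v = v → v = 0) :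
    g.1.trace = 0 ∨ g.1.trace = 1 := by
  have e : adj g.1 = g.1 ^ 4 := by
    rw [← SubmonoidClass.coe_pow, ← inv_eq_of_mul_eq_one_right (a := g) (b := g ^ 4) (by rw [← pow_succ', h5]),
      SymplecticGroup.coe_inv, adj, neg_mul, neg_mul]
  have e5 : g.1 ^ 5 = 1 := by rw [← SubmonoidClass.coe_pow, h5]; rfl
  obtain ⟨⟨s, k1⟩, k2⟩ := EvA6.theta g.1
  rw [e] at k1 k2
  have k3 : 1 + g.1 + g.1 ^ 2 + g.1 ^ 3 + g.1 ^ 4 = 0 := Matrix.ext_of_mulVec_single fun i => by
    rw [zero_mulVec]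
    refine hf _ ?_
    rw [mulVec_mulVec]
    congr 1
    simp only [mul_add, mul_one, ← pow_succ', ← sq, e5]
    abel
  have k4 : (g.1 + g.1 ^ 4) * (g.1 + g.1 ^ 4) = g.1 ^ 2 + (2 : F) • 1 + g.1 ^ 3 := by
    rw [mul_add, add_mul, add_mul, ← pow_succ, ← pow_succ', ← pow_add, ← sq, e5,
      show 4 + 4 = 5 + 3 from rfl, pow_add, e5, one_mul, two_smul]
    abel
  have k5 : (g.1.trace + 1) • (g.1 + g.1 ^ 4) = (s - 1) • 1 := by
    rw [k4, h2, zero_smul, add_zero] at k1
    linear_combination (norm := module) k3 - k1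
  have a0 := congrFun (congrFun k5 (.inl 0)) (.inl 0)
  have a1 := congrFun (congrFun k5 (.inl 1)) (.inl 1)
  simp only [Matrix.smul_apply, smul_eq_mul, one_apply_eq, mul_one] at a0 a1
  have : g.1.trace * (g.1.trace - 1) = 0 := by
    linear_combination a0 + a1 - (g.1.trace + 1) * k2 + (s - 1 - g.1.trace) * h2
  simpa [sub_eq_zero] using this

theorem EvA6.nofix (h2 : (2 : F) = 0) {a z : SpM F} (ha : a * a = 1) (hz : z ^ 5 = 1)
    (hb : (a * z) ^ 2 ^ 2 = 1) (hf : ∀ v, a.1 *ᵥ v = v → z.1 *ᵥ v = v → v = 0) {y : I4 → F}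
    (hy : z.1 *ᵥ y = y) : y = 0 := by
  by_contra y0
  have aa : ∀ v, a.1 *ᵥ a.1 *ᵥ v = v := fun v => by rw [← H27.sp_mul_mulVec, ha, H27.sp_one_mulVec]
  have mem : ∀ (g : SpM F) v, v ∈ LinearMap.ker (g.1 - 1).mulVecLin ↔ g.1 *ᵥ v = v := fun g v => by
    rw [LinearMap.mem_ker, mulVecLin_apply, sub_mulVec, one_mulVec, sub_eq_zero]
  have d1 : 2 ≤ Module.finrank F (LinearMap.ker (a.1 - 1).mulVecLin) := by
    have k1 := (a.1 - 1).mulVecLin.finrank_range_add_finrank_ker
    have k2 := Submodule.finrank_mono (show LinearMap.range (a.1 - 1).mulVecLin ≤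
      LinearMap.ker (a.1 - 1).mulVecLin by
        rintro _ ⟨v, rfl⟩
        rw [mem, mulVecLin_apply, sub_mulVec, one_mulVec, mulVec_sub, aa]
        linear_combination (norm := module) h2 • (v - a.1 *ᵥ v))
    simp only [Module.finrank_pi, Fintype.card_sum, Fintype.card_fin] at k1
    omega
  have d2 : 2 ≤ Module.finrank F (LinearMap.ker (z.1 - 1).mulVecLin) := by
    obtain ⟨x, hx⟩ : ∃ x, ff y x ≠ 0 := not_forall.1 fun h => y0 (H27.eq_zero_of_sympForm_left h)
    have k : ∀ v, ff y (z.1 *ᵥ v) = ff y v := fun v => by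
      conv_lhs => rw [← hy]
      exact H27.sp_sympForm z y v
    have z5 : z.1 *ᵥ z.1 *ᵥ z.1 *ᵥ z.1 *ᵥ z.1 *ᵥ x = x := by
      simp only [← H27.sp_mul_mulVec]
      rw [show z * (z * (z * (z * z))) = z ^ 5 by simp only [pow_succ', pow_zero, mul_one], hz,
        H27.sp_one_mulVec]
    have li := H27.linearIndependent_pair_of_sympForm_ne_zero (u := y)
      (v := x + z.1 *ᵥ x + z.1 *ᵥ z.1 *ᵥ x + z.1 *ᵥ z.1 *ᵥ z.1 *ᵥ x + z.1 *ᵥ z.1 *ᵥ z.1 *ᵥ z.1 *ᵥ x)
      (fun h => hx (by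
        simp only [H27.sympForm_add_right, k] at h
        linear_combination h - 2 * ff y x * h2))
    refine le_trans (by rw [finrank_span_eq_card li]; simp) (Submodule.finrank_mono
      (Submodule.span_le.2 ?_))
    rintro _ ⟨i, rfl⟩
    fin_cases i
    · exact (mem _ _).2 hy
    · refine (mem _ _).2 ?_
      simp only [Fin.mk_one, cons_val_one, cons_val_fin_one, mulVec_add, z5]
      abel
  have d3 := Submodule.finrank_sup_add_finrank_inf_eq (LinearMap.ker (a.1 - 1).mulVecLin)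
    (LinearMap.ker (z.1 - 1).mulVecLin)
  rw [show LinearMap.ker (a.1 - 1).mulVecLin ⊓ LinearMap.ker (z.1 - 1).mulVecLin = ⊥ from
    (Submodule.eq_bot_iff _).2 fun v hv => hf v ((mem _ _).1 hv.1) ((mem _ _).1 hv.2),
    finrank_bot] at d3
  have top : LinearMap.ker (a.1 - 1).mulVecLin ⊔ LinearMap.ker (z.1 - 1).mulVecLin = ⊤ :=
    Submodule.eq_top_of_finrank_eq (le_antisymm (Submodule.finrank_le _) (by
      simp only [Module.finrank_pi, Fintype.card_sum, Fintype.card_fin]; omega))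
  obtain ⟨v, v0, hv⟩ := exists_fix_of_two_pow h2 hb
  have e : z.1 *ᵥ v = a.1 *ᵥ v := by rw [← aa (z.1 *ᵥ v), ← H27.sp_mul_mulVec a z, hv]
  have pp : ∀ (g : SpM F) u, g.1 *ᵥ u = u → ff (g.1 *ᵥ v - v) u = 0 := fun g u hu => by
    rw [ff, H27.sympForm_sub_left, ← H27.sp_sympForm g v u, hu, sub_self]
  have x0 : a.1 *ᵥ v - v = 0 := H27.eq_zero_of_sympForm_left fun u => by
    obtain ⟨p, hp, q, hq, rfl⟩ := Submodule.mem_sup.1 (top ▸ Submodule.mem_top (x := u))
    have k1 := pp a p ((mem _ _).1 hp)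
    have k2 := pp z q ((mem _ _).1 hq)
    rw [e] at k2
    rw [H27.sympForm_add_right]
    exact (congrArg₂ (· + ·) k1 k2).trans (add_zero _)
  exact v0 (hf v (sub_eq_zero.1 x0) (e.trans (sub_eq_zero.1 x0)))

open H10.P3 in
theorem Ev.a6_trace (h : Ev ρ) (e : G ≃* alternatingGroup (Fin 6)) (g : G) :
    (ρ g).1.trace = 0 ∨ (ρ g).1.trace = 1 := by
  let σ := ρ.comp e.symm.toMonoidHom
  obtain ⟨x, rfl⟩ := e.symm.surjective g
  change (σ x).1.trace = 0 ∨ (σ x).1.trace = 1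
  have aa : a6a * a6a = 1 := by decide +kernel
  have nf : ∀ v, (σ (a6a * a6b)).1 *ᵥ v = v → v = 0 := fun v => EvA6.nofix h.two (a := σ a6a)
    (by rw [← map_mul, aa, map_one]) (by rw [← map_pow, a6_five.2.1, map_one])
    (by rw [← map_mul, ← map_pow, show (a6a * (a6a * a6b)) ^ 2 ^ 2 = 1 by decide +kernel, map_one])
    fun v h1 h2 => h.nofix v fun g => by
      let S : Subgroup (alternatingGroup (Fin 6)) :=
        { carrier := {x | (σ x).1 *ᵥ v = v}
          mul_mem' := fun {x y} hx hy => by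
            change _ = _ at hx hy ⊢
            rw [map_mul, H27.sp_mul_mulVec, hy, hx]
          one_mem' := by change _ = _; rw [map_one, H27.sp_one_mulVec]
          inv_mem' := fun {x} hx => by
            change _ = _ at hx ⊢
            conv_lhs => rw [← hx, map_inv, H27.sp_inv_mulVec_mulVec] }
      have := a6_gen (H := S) h1 (by
        simpa [← mul_assoc, aa] using S.mul_mem (show a6a ∈ S from h1) (show a6a * a6b ∈ S from h2))
      have : e g ∈ S := by rw [this]; trivial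
      simpa [S, σ] using this
  have cj : ∀ y, y ^ 5 = 1 → (∀ v, (σ y).1 *ᵥ v = v → v = 0) → IsConj y x →
      (σ x).1.trace = 0 ∨ (σ x).1.trace = 1 := fun y h1 h2 h3 => by
    obtain ⟨c, rfl⟩ := isConj_iff.1 h3
    rw [map_mul, map_mul, Submonoid.coe_mul, Submonoid.coe_mul, trace_mul_comm, ← mul_assoc,
      ← Submonoid.coe_mul, ← map_mul, inv_mul_cancel, map_one, Submonoid.coe_one, one_mul]
    exact EvA6.five h.two (by rw [← map_pow, h1, map_one]) h2
  rcases EvA6.cls x with k | k | k | k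
  · exact Or.inl (trace_of_two_pow h.two (n := 2) (by rw [← map_pow, k, map_one]))
  · have := trace_sq_two h.two (σ x).1
    rw [← Submonoid.coe_mul, ← inv_eq_of_mul_eq_one_right (a := σ x) (b := σ x * σ x) (by
      rw [← pow_three, ← map_pow, k, map_one]), trace_inv_spM] at this
    have : (σ x).1.trace * ((σ x).1.trace - 1) = 0 := by linear_combination -this
    simpa [sub_eq_zero] using this
  · exact cj _ a6_five.2.1 nf k
  · refine cj _ (by decide +kernel) (fun v hv => nf v ?_) k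
    rw [show a6a * a6b = (a6a * a6b) ^ 2 * ((a6a * a6b) ^ 2 * (a6a * a6b) ^ 2) by decide +kernel,
      map_mul, map_mul, H27.sp_mul_mulVec, H27.sp_mul_mulVec, hv, hv, hv]

theorem Ev.not_seven (h : Ev ρ) {x y : G} (hx : x ^ 7 = 1) (h1 : x ≠ 1) (hy : y * x * y⁻¹ = x ^ 2) :
    False := by
  let σ : G →* G4 F := ((symplecticGroup (Fin 2) F).subtype.comp ρ).toHomUnits
  refine seven_false (x := σ x) (y := σ y) (by simp) (fun h7 => one_ne_zero (α := F) (by
    linear_combination h7 - 3 * h.two)) (by rw [← map_pow, hx, map_one])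
    (fun k => h1 (h.inj (Subtype.ext ((congrArg Units.val k).trans (by simp)))))
    (by rw [← map_pow, ← hy, map_mul, map_mul, map_inv]) (charpoly_inv_sp (mem_spGL_iff.2 ?_))
  rw [adj, neg_mul]
  exact SymplecticGroup.inv_left_mul_aux (ρ x).2

theorem Ev.not_seven_psl (h : Ev ρ) {K : Type} [Field K] {n : ℕ} (p : ℕ) [Fact p.Prime] [CharP K p]
    (e : G ≃* Matrix.ProjectiveSpecialLinearGroup (Fin n) K)
    {x y : SpecialLinearGroup (Fin n) (ZMod p)} (hx : x ^ 7 = 1) (h1 : x ≠ 1)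
    (hy : y * x = x ^ 2 * y) : False := by
  let f := SpecialLinearGroup.map (n := Fin n) (ZMod.castHom (dvd_refl p) K)
  have inj : Function.Injective f := fun a b k => Subtype.ext (Matrix.map_injective
    (ZMod.castHom (dvd_refl p) K).injective (congrArg Subtype.val k))
  let σ := e.symm.toMonoidHom.comp ((QuotientGroup.mk' _).comp f)
  refine h.not_seven (x := σ x) (y := σ y) (by rw [← map_pow, hx, map_one]) (fun k => h1 (inj ?_))
    (by rw [mul_inv_eq_iff_eq_mul, ← map_pow, ← map_mul, ← map_mul, hy])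
  have := Subgroup.mem_center_iff.1 ((QuotientGroup.eq_one_iff (f x)).1
    ((map_eq_one_iff _ e.symm.injective).1 k)) (f y)
  rw [← map_mul, hy, map_mul, mul_left_inj, map_pow, sq, mul_eq_left] at this
  rw [this, map_one]

theorem EvA6.ex2 : ∃ x y : SpecialLinearGroup (Fin 3) (ZMod 2), x ^ 7 = 1 ∧ x ≠ 1 ∧ y * x = x ^ 2 * y :=
  ⟨⟨!![0, 0, 1; 1, 0, 1; 0, 1, 0], by decide⟩, ⟨!![1, 0, 0; 0, 0, 1; 0, 1, 1], by decide⟩,
    Subtype.ext (by decide +kernel), fun k => absurd (congrArg Subtype.val k) (by decide +kernel),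
    Subtype.ext (by decide +kernel)⟩

theorem EvA6.ex7 : ∃ x y : SpecialLinearGroup (Fin 2) (ZMod 7), x ^ 7 = 1 ∧ x ≠ 1 ∧ y * x = x ^ 2 * y :=
  ⟨⟨!![1, 1; 0, 1], by decide⟩, ⟨!![3, 0; 0, 5], by decide⟩,
    Subtype.ext (by decide +kernel), fun k => absurd (congrArg Subtype.val k) (by decide +kernel),
    Subtype.ext (by decide +kernel)⟩

theorem Ev.not_psl3 (h : Ev ρ) {K : Type} [Field K] [Fintype K] (hK : Fintype.card K = 4)
    (e : G ≃* Matrix.ProjectiveSpecialLinearGroup (Fin 3) K) : False := by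
  have : CharP K 2 := charP_of_card_eq_prime_pow (f := 2) hK
  obtain ⟨x, y, h1, h2, h3⟩ := EvA6.ex2
  exact h.not_seven_psl 2 e h1 h2 h3

theorem Ev.psl2_prime (h : Ev ρ) (hc : AllC2 ρ) {K : Type} [Field K] [Fintype K]
    (hp : (Fintype.card K).Prime)
    (hK : ∃ k : ℕ, Fintype.card K = 2 ^ k + 1 ∨ Fintype.card K + 1 = 2 ^ k)
    (e : G ≃* Matrix.ProjectiveSpecialLinearGroup (Fin 2) K) : Fintype.card K = 5 := by
  have := h.simple
  have : Finite G := Finite.of_equiv _ e.symm.toEquiv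
  have h3 : 3 < Fintype.card K := by
    by_contra! h3
    have h1 := H9.gcd_mul_card_psl_two (F := K)
    rw [← Nat.card_congr e.toEquiv] at h1
    have h2 : 1 < Fintype.card K := Fintype.one_lt_card
    have h4 : Nat.card G ≤ 24 := by interval_cases Fintype.card K <;> norm_num at h1 <;> omega
    obtain ⟨a, b, hab⟩ := h.nonab
    have := S0493.result (G := G) (fun hc => hab (hc.isMulCommutative.is_comm.comm a b)) (by omega)
    omega
  have := Fact.mk hp
  have : CharP K (Fintype.card K) := charP_of_card_eq_prime rfl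
  have n7 : Fintype.card K ≠ 7 := fun h7 => by
    have : Fact (Nat.Prime 7) := ⟨by norm_num⟩
    have : CharP K 7 := charP_of_card_eq_prime h7
    obtain ⟨x, y, h1, h2, h3⟩ := EvA6.ex7
    exact h.not_seven_psl 7 e h1 h2 h3
  have o := hp.eq_two_or_odd.resolve_left (by omega)
  have n8 : ¬ ∃ x : Matrix.ProjectiveSpecialLinearGroup (Fin 2) K, orderOf x = 8 := by
    rintro ⟨x, hx⟩
    obtain ⟨g, rfl⟩ := e.surjective x
    rw [MulEquiv.orderOf_eq] at hx
    have n : g ^ 4 ≠ 1 := pow_ne_one_of_lt_orderOf (by norm_num) (by omega)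
    obtain ⟨p, hp⟩ := hc (g ^ 4) (by rw [← pow_add, ← pow_orderOf_eq_one g, hx]) n
    exact n (h.inj (by
      rw [map_pow, hp.pow_four h.two (by rw [← map_mul, ← map_mul, ← pow_succ, ← pow_succ']), map_one]))
  have s := S2475.result (F := K) (Fintype.card K) h3
  rw [show Nat.gcd 2 (Fintype.card K - 1) = 2 from Nat.gcd_eq_left (by omega)] at s
  obtain ⟨k, hk⟩ := hK
  by_cases k4 : 4 ≤ k
  · obtain ⟨j, rfl⟩ := Nat.exists_eq_add_of_le k4
    rw [pow_add] at hk
    refine (n8 (show 8 ∈ Set.range _ from ?_)).elim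
    rw [s]
    rcases hk with hk | hk
    · exact Or.inr (Or.inl ⟨2 ^ j, by omega⟩)
    · exact Or.inr (Or.inr ⟨2 ^ j, by omega⟩)
  · have n9 : Fintype.card K ≠ 9 := fun h => by rw [h] at hp; norm_num at hp
    interval_cases k <;> omega

end Cfsg.Agent.DIM4
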