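import Cfsg.Agent.DIM4.EvGamma
import Cfsg.Agent.DIM4.EvTB
import Cfsg.Agent.DIM4.EvL2
import Cfsg.Agent.DIM4.EvA6
import Cfsg.Agent.DIM4.EvSz
import Cfsg.Agent.H12.CITMain
import Cfsg.Agent.H35.B43
import Cfsg.Agent.S0205
import Cfsg.Agent.S0252
import Cfsg.Agent.S0253
import Cfsg.Agent.S0254

/-! Simple subgroups of `Sp₄(2^n)`. -/

set_option autoImplicit false

namespace Cfsg.Agent.DIM4

open Matrix

variable {F : Type*} [Field F] [Fintype F] {G : Type*} [Group G] {ρ : G →* SpM F}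

theorem Ev.trans (h : Ev ρ) (hD : (DT ρ).Nonempty) :
    Function.Surjective ρ ∨ ∃ K : Subfield F, K ≠ ⊤ ∧ RatK ρ K := by
  by_cases hn : ∀ w ∈ DT ρ, ∀ c : F, c • w ∈ DT ρ → c = 1
  swap
  · push Not at hn
    obtain ⟨w, hw, c, hc, h1⟩ := hn
    exact h.caseA hw hc h1
  have hb := h.caseB hn
  let K : Subfield F :=
    { carrier := {a | a = 0 ∨ a = 1}
      mul_mem' := by rintro a b (rfl | rfl) (rfl | rfl) <;> simp
      one_mem' := Or.inr rfl
      add_mem' := by
        rintro a b (rfl | rfl) (rfl | rfl) <;> simp [one_add_one_eq_two, h.two]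
      zero_mem' := Or.inl rfl
      neg_mem' := by
        rintro a (rfl | rfl)
        · simp
        · exact Or.inr (by linear_combination -h.two)
      inv_mem' := by rintro a (rfl | rfl) <;> simp }
  refine Or.inr ⟨K, fun e => ?_, ratK_of_span (D := DT ρ) ?_ (fun g w hw => DT.smul_mem hw g) hb⟩
  · obtain ⟨a, h0, h1⟩ := h.four
    exact (show a ∈ K from e ▸ trivial).elim h0 h1
  · refine (h.irr hD fun g v hv => ?_).resolve_left fun e => ?_
    · exact (Submodule.span_le (s := DT ρ) (p := (Submodule.span F (DT ρ)).comap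
        (Matrix.toLin' (ρ g).1))).2 (fun w hw => Submodule.subset_span (DT.smul_mem hw g)) hv
    · obtain ⟨w, hw⟩ := hD
      exact hw.1 (Submodule.span_eq_bot.1 e w hw)

theorem Ev.allC2 (h : Ev ρ) (hs : Submodule.span F (Set.range fun g => (ρ g).1) = ⊤)
    (ht : ∀ K : Subfield F, (∀ g, (ρ g).1.trace ∈ K) → K = ⊤) (hne : ¬ Function.Surjective ρ) :
    AllC2 ρ := by
  intro t h2 h1
  have h1' : ρ t ≠ 1 := fun e => h1 (h.inj (e.trans (map_one ρ).symm))
  have h2' : ρ t * ρ t = 1 := by rw [← map_mul, h2, map_one]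
  rcases invol_cases h.two h2' h1' with ⟨w, hw, e⟩ | ha | hc
  · rcases h.trans ⟨w, hw, t, e⟩ with e | ⟨K, hK, r⟩
    · exact absurd e hne
    · exact absurd (ht K fun g => (r g).1) hK
  swap
  · exact hc
  exfalso
  obtain ⟨γ, hγ, g1, g2, g3⟩ := exists_gamma (F := F) h.two
  have h' : Ev (γ.comp ρ) := by
    refine ⟨h.two, h.four, h.simple, h.nonab, fun y hy => ?_⟩
    obtain ⟨b, hb⟩ := hγ.2 (H27.spT y 1)
    have c : ∀ g, ρ g * b = b * ρ g := fun g => hγ.1 (by
      rw [map_mul, map_mul, hb, ← mul_inv_eq_iff_eq_mul, H27.conj_spT]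
      exact congrArg (H27.spT · 1) (hy g))
    have c' : ∀ A : M4 F, A * b.1 = b.1 * A := fun A => by
      have hA : A ∈ Submodule.span F (Set.range fun g => (ρ g).1) := hs ▸ trivial
      induction hA using Submodule.span_induction with
      | mem x hx => obtain ⟨g, rfl⟩ := hx; exact congrArg Subtype.val (c g)
      | zero => simp
      | add x y _ _ hx hy => rw [Matrix.add_mul, Matrix.mul_add, hx, hy]
      | smul a x _ hx => rw [Matrix.smul_mul, Matrix.mul_smul, hx]
    have c'' : ∀ k : SpM F, k * H27.spT y 1 * k⁻¹ = H27.spT y 1 := fun k => by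
      obtain ⟨k, rfl⟩ := hγ.2 k
      rw [← hb, ← map_inv, ← map_mul, ← map_mul, show k * b = b * k from Subtype.ext (c' _),
        mul_inv_cancel_right]
    by_contra hy0
    obtain ⟨z, hz⟩ : ∃ z, ff y z ≠ 0 := by
      by_contra! hz
      exact hy0 (H27.eq_zero_of_sympForm_left hz)
    have e1 : ∀ x, ff y x • x = 0 := fun x => by
      have := c'' (H27.spT x 1)
      rw [H27.conj_spT] at this
      simpa [H27.spT_mulVec] using spT_inj h.two this
    have := (smul_eq_zero.1 (e1 z)).resolve_left hz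
    exact hz (this ▸ H27.sympForm_zero_right y)
  obtain ⟨w, hw, e⟩ := g3 _ h2' h1' ha
  rcases h'.trans ⟨w, hw, t, e⟩ with e | ⟨K, hK, r⟩
  · exact hne fun k => let ⟨g, hg⟩ := e (γ k); ⟨g, hγ.1 hg⟩
  · refine hK (ht K fun g => ?_)
    have m : (ρ g).1.trace ^ 2 ∈ K := by rw [← g2, g1]; exact (r g).2
    have : CharP K 2 := CharTwo.of_one_ne_zero_of_two_eq_zero one_ne_zero (Subtype.ext h.two)
    obtain ⟨k, hk⟩ := surjective_frobenius K 2 ⟨_, m⟩
    have hk' : (k : F) ^ 2 = (ρ g).1.trace ^ 2 := congrArg Subtype.val hk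
    have : (ρ g).1.trace = k := by
      have : ((ρ g).1.trace - k) ^ 2 = 0 := by
        linear_combination hk' + ((ρ g).1.trace ^ 2 - (ρ g).1.trace * k) * h.two
      exact sub_eq_zero.1 (pow_eq_zero_iff two_ne_zero |>.1 this)
    exact this ▸ k.2

theorem Ev.main [Finite G] (h : Ev ρ) (hs : Submodule.span F (Set.range fun g => (ρ g).1) = ⊤)
    (ht : ∀ K : Subfield F, (∀ g, (ρ g).1.trace ∈ K) → K = ⊤) (hne : ¬ Function.Surjective ρ)
    (hQ : ¬ ∃ Q, IsQ Q ∧ ∀ g v, Q ((ρ g).1 *ᵥ v) = Q v) :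
    ∃ m : ℕ, 1 ≤ m ∧ Fintype.card F = 2 ^ (2 * m + 1) ∧
      Nonempty (G ≃* Cfsg.Lie.Sz F (2 ^ (m + 1))) := by
  have hc := h.allC2 hs ht hne
  have := h.simple
  have hcit : H12.IsCIT G := fun t h2 g => by
    obtain ⟨p, hp⟩ := hc t (by rw [← sq, ← h2, pow_orderOf_eq_one])
      (by rintro rfl; simp at h2)
    have := hp.pow_four h.two (g := ρ g) (by
      rw [← map_mul, ← map_mul, Subgroup.mem_centralizer_singleton_iff.1 g.2])
    exact ⟨2, Subtype.ext (h.inj (by simpa using this))⟩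
  have hev : Even (Nat.card G) := by
    by_contra ho
    have := S0205.result (Nat.not_even_iff_odd.1 ho)
    obtain ⟨a, b, hab⟩ := h.nonab
    exact hab (IsSimpleGroup.comm_iff_isSolvable.2 this a b)
  have l2 : ∀ (K : Type) [Field K] [Fintype K], (2 : K) = 0 →
      (G ≃* ProjectiveSpecialLinearGroup (Fin 2) K) → False := fun K _ _ hK e => by
    have : CharP K 2 := CharTwo.of_one_ne_zero_of_two_eq_zero one_ne_zero hK
    obtain ⟨n, -, hn⟩ := FiniteField.card K 2
    obtain ⟨e'⟩ := H35.psl_equiv_sl (F := K) (hn ▸ (Nat.even_pow.2 ⟨even_two, n.ne_zero⟩))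
    exact hQ (h.exists_quad hc hs hK (e.trans e'))
  rcases H12.cit_simple_iso h.nonab hev hcit with ⟨n, -, ⟨e⟩⟩ | ⟨K, _, _, hK | hK, ⟨e⟩⟩ |
    ⟨K, _, _, hK, ⟨e⟩⟩ | e
  · have := Fintype.ofFinite (GaloisField 2 n)
    exact (l2 _ (CharP.cast_eq_zero _ 2) e).elim
  · obtain ⟨e6⟩ := S0254.result hK
    obtain ⟨a, h0, h1⟩ := h.four
    have : CharP F 2 := CharTwo.of_one_ne_zero_of_two_eq_zero one_ne_zero h.two
    have : Fact (Nat.Prime 2) := ⟨Nat.prime_two⟩
    have := ht ⊥ fun g => by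
      rcases h.a6_trace (e.trans e6) g with e | e <;> rw [e]
      exacts [zero_mem _, one_mem _]
    have ha : a ∈ (⊥ : Subfield F) := this ▸ trivial
    rw [Subfield.mem_bot_iff_pow_eq_self F 2] at ha
    have : a * (a - 1) = 0 := by linear_combination ha
    exact ((mul_eq_zero.1 this).elim h0 fun e => h1 (sub_eq_zero.1 e)).elim
  · obtain ⟨e5⟩ := S0253.result (h.psl2_prime hc hK.1 hK.2 e)
    have := Fintype.ofFinite (GaloisField 2 2)
    obtain ⟨e4⟩ := S0252.result (F := GaloisField 2 2) (by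
      rw [← Nat.card_eq_fintype_card, GaloisField.card 2 2 two_ne_zero]; rfl)
    exact (l2 _ (CharP.cast_eq_zero _ 2) ((e.trans e5).trans e4.symm)).elim
  · exact (h.not_psl3 hK e).elim
  · exact h.sz ht e

end Cfsg.Agent.DIM4
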