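import Cfsg.Agent.DIM4.TripleA
import Cfsg.Agent.H93.L2Bin

/-! Project DIM4: Dickson's theorem for three roots. -/

set_option autoImplicit false

namespace Cfsg.Agent.DIM4

open Matrix Matrix.ProjGenLinGroup Subgroup H28
open scoped MatrixGroups

variable {F : Type*} [Field F] [Finite F] {G : Subgroup (G4 F)}

namespace Triple

variable {s t w : M4 F} {δ : F}

/-- The elements of `GL₂(F)` which come from `G`. -/
def Gam0 (G : Subgroup (G4 F)) (h : Hyp s t w δ) : Submonoid (GL (Fin 2) F) where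
  carrier := {A | ∃ (c : F) (k : ℕ) (g : M4 F), InG G g ∧ Commute (om s t w) g ∧
    phi s t w δ A = c • (om s t w ^ k * g)}
  one_mem' := ⟨1, 0, 1, InG.one, Commute.one_right _, by simp [h.phi_one]⟩
  mul_mem' := by
    rintro A B ⟨c, k, g, h1, h2, h3⟩ ⟨c', k', g', h1', h2', h3'⟩
    refine ⟨c * c', k + k', g * g', h1.mul h1', h2.mul_right h2', ?_⟩
    rw [Units.val_mul, h.phi_mul, h3, h3', smul_mul_smul_comm, pow_add, mul_assoc, mul_assoc,
      ← mul_assoc g, ← (h2.pow_left k').eq, mul_assoc]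

/-- The same as a subgroup. -/
def Gam (G : Subgroup (G4 F)) (h : Hyp s t w δ) : Subgroup (GL (Fin 2) F) :=
  { Gam0 G h with
    inv_mem' := fun hA => Submonoid.powers_le.2 hA
      (mem_powers_iff_mem_zpowers.2 (inv_mem (mem_zpowers _))) }

omit [Finite F] in
theorem mu (hu : ¬ UStar G) {s y : M4 F} (h : Eich s y) {μ : F} (h1 : InG G (1 + s * y))
    (h2 : InG G (1 + s * (μ • y))) : μ = 0 ∨ μ = 1 ∨ μ = -1 := by
  by_contra e
  push Not at e
  exact hu ⟨s, y, h, μ, e.1, e.2.1, e.2.2, h1, by rwa [← mul_smul_comm]⟩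

omit [Finite F] in
theorem eq_of_smul_one {a b : F} (h : a • (1 : M4 F) = b • 1) : a = b := by
  simpa using congrFun (congrFun h (Sum.inl 0)) (Sum.inl 0)

theorem unip (S : Std G) (hu : ¬ UStar G) (h : Hyp s t w δ) (T : GL (Fin 2) F) {μ : F}
    (h1 : ∀ a, a = 1 ∨ a = μ → mk (T * gl2 1 a 0 1 (by simp) * T⁻¹) ∈ (Gam G h).map mk) :
    μ = 0 ∨ μ = 1 ∨ μ = -1 := by
  have tc : ∀ A : Matrix (Fin 2) (Fin 2) F, (T.1 * A * T⁻¹.1).trace = A.trace := fun A => by
    rw [trace_mul_cycle, Units.inv_mul, one_mul]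
  have dc : ∀ A : Matrix (Fin 2) (Fin 2) F, (T.1 * A * T⁻¹.1).det = A.det := fun A => by
    rw [det_mul_comm, ← mul_assoc, Units.inv_mul, one_mul]
  have mc : ∀ A B : Matrix (Fin 2) (Fin 2) F,
      T.1 * A * T⁻¹.1 * (T.1 * B * T⁻¹.1) = T.1 * (A * B) * T⁻¹.1 := fun A B => by
    simp only [mul_assoc, Units.inv_mul_cancel_left]
  obtain ⟨n, hn⟩ := exists_mm h.ne (A := T.1 * !![0, 1; 0, 0] * T⁻¹.1) (by rw [tc]; simp)
  obtain ⟨d, hd⟩ := exists_mm h.ne (A := T.1 * !![-1, 0; 0, 1] * T⁻¹.1) (by rw [tc]; simp)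
  have e1 := h.det_mm n
  have e2 := h.det_mm d
  have e3 := h.trace_mm n d
  have e4 := h.phi_mm_mm n d
  rw [hn, hd, mc] at e3 e4
  rw [hn, dc] at e1
  rw [hd, dc] at e2
  rw [tc] at e3
  have q1 : qW (vec s t w n) = 0 := by simpa [h.ne] using e1
  have q2 : δ * qW (vec s t w d) = 1 := by simpa using e2.symm
  have q3 : bW (vec s t w n) (vec s t w d) = 0 := by simpa [h.ne, trace_fin_two] using e3.symm
  have q4 := mul_self h.two (h.vec_mem n)
  rw [q1, zero_smul] at q4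
  have key : ∀ a, a = 1 ∨ a = μ → InG G (1 + vec s t w n * (a • (2 * δ) • vec s t w d)) := by
    intro a ha
    obtain ⟨A, ⟨c, k, g, g1, g2, g3⟩, e⟩ := h1 a ha
    obtain ⟨u, e⟩ := mk_eq_mk_iff.1 e
    have e5 : ((u : F) • A.1) * ((u : F) • A.1) =
        (1 : F) • 1 + (2 * a) • (T.1 * (!![0, 1; 0, 0] * !![-1, 0; 0, 1]) * T⁻¹.1) := by
      have : (u : F) • A.1 = T.1 * !![1, a; 0, 1] * T⁻¹.1 := by
        rw [← gl2_coe 1 a 0 1 (by simp), ← Units.val_mul, ← Units.val_mul, ← e]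
        ext i j
        simp [scalar_apply, mul_comm]
      have e4 : !![1, a; 0, 1] * !![1, a; 0, 1] =
          1 + (2 * a) • (!![(0 : F), 1; 0, 0] * !![-1, 0; 0, 1]) := by
        ext i j
        fin_cases i <;> fin_cases j <;> simp
        ring
      rw [this, mc, e4, mul_add, add_mul, mul_one, Units.mul_inv, one_smul, mul_smul_comm,
        smul_mul_assoc]
    have e6 : 1 + vec s t w n * (a • (2 * δ) • vec s t w d) =
        ((u * c) ^ 2 * δ ^ k) • (g * g) := by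
      have := congrArg (phi s t w δ) e5
      have e8 : om s t w ^ k * g * (om s t w ^ k * g) = δ ^ k • (g * g) := by
        rw [← sq, (g2.pow_left k).mul_pow, ← pow_mul, mul_comm k, pow_mul, sq, sq, h.om_sq,
          smul_pow, one_pow, smul_mul_assoc, one_mul]
      rw [h.phi_mul, phi_smul, phi_add_smul, h.phi_one, e4, g3, smul_smul, smul_mul_smul_comm,
        e8] at this
      rw [mul_smul ((u * c) ^ 2), sq, this]
      simp only [mul_smul_comm]
      module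
    have e7 := eich_sp h.two (h.vec_mem n) q4 (Submodule.smul_mem _ a
      (Submodule.smul_mem _ (2 * δ) (h.vec_mem d))) (by simp [bW_smul_right, q3])
    rw [e6] at e7 ⊢
    generalize (u * c) ^ 2 * δ ^ k = l at e7
    rw [adj_smul, smul_mul_smul_comm, S.adj_mul (g1.mul g1)] at e7
    rcases mul_self_eq_one_iff.1 (eq_of_smul_one (e7.trans (one_smul _ _).symm)) with rfl | rfl
    · simpa using g1.mul g1
    · simpa using S.inG_neg (g1.mul g1)
  refine mu hu (y := (2 * δ) • vec s t w d) ⟨h.vec_mem n, Submodule.smul_mem _ _ (h.vec_mem d),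
    fun e => ?_, q4, by simp [bW_smul_right, q3], ?_⟩ (by simpa using key 1 (Or.inl rfl))
    (key μ (Or.inr rfl))
  · obtain ⟨m, hm⟩ := exists_mm h.ne (A := T.1 * !![0, 0; 1, 0] * T⁻¹.1) (by rw [tc]; simp)
    have := h.trace_mm n m
    rw [hn, hm, mc, tc, e] at this
    simp [trace_fin_two] at this
  · rw [qW_smul]
    exact mul_ne_zero (pow_ne_zero _ (mul_ne_zero h.two h.ne)) (right_ne_zero_of_mul_eq_one q2)

theorem dih {n : ℕ} {a b c : DihedralGroup n} (ha : a ^ 2 = 1) (hb : b ^ 2 = 1) (hc : c ^ 2 = 1)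
    (h1 : (a * b) ^ 2 ≠ 1) (h2 : (b * c) ^ 2 ≠ 1) : (a * b * c) ^ 2 = 1 ∧ a * b * c ≠ 1 := by
  have key : ∀ i j : ZMod n, DihedralGroup.r i ^ 2 = 1 → DihedralGroup.r j ^ 2 = 1 →
      (DihedralGroup.r i * DihedralGroup.r j) ^ 2 = 1 := fun i j hi hj => by
    rw [Commute.mul_pow (by simp [Commute, SemiconjBy, add_comm]), hi, hj, one_mul]
  rcases a with a | a <;> rcases b with b | b <;> rcases c with c | c
  any_goals exact absurd (key _ _ ha hb) h1
  any_goals exact absurd (key _ _ hb hc) h2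
  all_goals simp [sq, DihedralGroup.one_def, -DihedralGroup.r_zero] at h1 h2 ⊢

theorem s4 : ∀ g : Equiv.Perm (Fin 4), (g ^ 3 = 1 ∧ Equiv.Perm.sign g = 1) ∨
    (g ^ 2 = 1 ∧ g ≠ 1) ∨ (g ^ 4 = 1 ∧ Equiv.Perm.sign g = -1) := by decide +kernel

theorem a4 : ∀ g : alternatingGroup (Fin 4), g ^ 2 = 1 ∨ g ^ 3 = 1 ∨ g ^ 5 = 1 := by
  decide +kernel

omit [Finite F] in
theorem gtr_tri {A B C : GL (Fin 2) F} (x : OnePoint F) [DecidableEq F] (hA : gtr A = 0)
    (hB : gtr B = 0) (hC : gtr C = 0) (h1 : mk A • x = x) (h2 : mk B • x = x) (h3 : mk C • x = x) :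
    gtr (A * B * C) = 0 := by
  obtain ⟨T, rfl⟩ := exists_smul_infty x
  induction T using ProjGenLinGroup.induction_on with | mk T =>
  have key : ∀ A : GL (Fin 2) F, gtr A = 0 → mk A • mk T • OnePoint.infty = mk T • OnePoint.infty →
      (T⁻¹ * A * T⁻¹⁻¹) 1 0 = 0 ∧ (T⁻¹ * A * T⁻¹⁻¹) 1 1 = -(T⁻¹ * A * T⁻¹⁻¹) 0 0 := fun A h h' =>
    ⟨OnePoint.smul_infty_eq_self_iff.1 (by
      rw [← mk_smul_pt, inv_inv, map_mul, map_mul, mul_smul, mul_smul, h', map_inv, inv_smul_smul]),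
      eq_neg_of_add_eq_zero_right ((gtr_conj A T⁻¹).trans h)⟩
  rw [← gtr_conj _ T⁻¹, ← _root_.conj_mul, ← _root_.conj_mul]
  obtain ⟨a1, a2⟩ := key A hA h1
  obtain ⟨b1, b2⟩ := key B hB h2
  obtain ⟨c1, c2⟩ := key C hC h3
  simp only [gtr, Units.val_mul (_ * _ * T⁻¹⁻¹), Units.val_mul (_ * _ * T⁻¹⁻¹ * _), mul_apply,
    Fin.sum_univ_two, a1, a2, b1, b2, c1, c2]
  ring

theorem three (S : Std G) (hu : ¬ UStar G) {x y z : M4 F} (hx : x ∈ Rt G) (hy : y ∈ Rt G)
    (hz : z ∈ Rt G) (hxy : bW x y ≠ 0) (hyz : bW y z ≠ 0) (hg : gram3 x y z ≠ 0) :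
    (∃ χ : M4 F → Bool, ∀ u ∈ Rt G, ∀ v ∈ Rt G, u ∈ Submodule.span F {x, y, z} →
      v ∈ Submodule.span F {x, y, z} →
      ((u = v ∨ u = -v ∨ bW u v ^ 2 = 1) ∧ χ u = χ v) ∨ bW u v = 0 ∨
        (bW u v ^ 2 = 2 ∧ χ u ≠ χ v)) ∨
    (∀ u ∈ Rt G, ∀ v ∈ Rt G, u ∈ Submodule.span F {x, y, z} → v ∈ Submodule.span F {x, y, z} →
      u = v ∨ u = -v ∨ bW u v = 0 ∨ bW u v ^ 2 = 1 ∨ Tau (bW u v ^ 2)) := by
  classical
  have R := S.rs
  obtain ⟨s, t, w, δ, h, hU⟩ := exists_hyp S.two hx.1 hy.1 hz.1 (R.qW hx) (R.qW hy) (R.qW hz) hg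
  set U := Submodule.span F {x, y, z}
  have hδ := h.ne
  have hf : ∀ u, u ∈ Rt G ∧ u ∈ U → ∃ (a : F × F × F) (g : GL (Fin 2) F), vec s t w a = u ∧
      g.1 = mm δ a ∧ g ∈ Gam G h := fun u ⟨h1, h2⟩ => by
    obtain ⟨a, rfl⟩ := hU u h2
    exact ⟨a, GeneralLinearGroup.mkOfDetNeZero (mm δ a) (by simpa [h.det_mm, R.qW h1]), rfl, rfl,
      1, 1, _, h1.2.2, h.om_comm a, by simp [h.phi_mm]⟩
  choose! a g ha hg' hΓ using hf
  set Γ := (Gam G h).map mk
  let X : ∀ u, u ∈ Rt G ∧ u ∈ U → Γ := fun u h1 => ⟨mk (g u), mem_map_of_mem _ (hΓ u h1)⟩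
  have t1 : ∀ u, u ∈ Rt G ∧ u ∈ U → gtr (g u) = 0 := fun u h1 => by simp [gtr, hg' u h1, mm]
  have x2 : ∀ u h1, X u h1 ^ 2 = 1 := fun u h1 =>
    Subtype.ext ((mk_pow_two_iff _).2 (Or.inl (t1 u h1)))
  have pr : ∀ u h1 v h2, (X u h1 * X v h2 = 1 → u = v ∨ u = -v) ∧
      ((X u h1 * X v h2) ^ 2 = 1 → bW u v = 0 ∨ X u h1 * X v h2 = 1) ∧
      ((X u h1 * X v h2) ^ 3 = 1 → bW u v ^ 2 = 1 ∨ X u h1 * X v h2 = 1) ∧
      ((X u h1 * X v h2) ^ 4 = 1 → (bW u v = 0 ∨ bW u v ^ 2 = 2) ∨ X u h1 * X v h2 = 1) ∧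
      ((X u h1 * X v h2) ^ 5 = 1 → Tau (bW u v ^ 2) ∨ X u h1 * X v h2 = 1) := by
    intro u h1 v h2
    have e1 : gtr (g u * g v) = δ * bW u v := by
      rw [gtr_eq, Units.val_mul, hg' u h1, hg' v h2, h.trace_mm, ha u h1, ha v h2]
    have e2 : gdet (g u * g v) = δ ^ 2 := by
      rw [gdet_mul, gdet_eq, gdet_eq, hg' u h1, hg' v h2, h.det_mm, h.det_mm, ha u h1, ha v h2,
        R.qW h1.1, R.qW h2.1]; ring
    have e3 : ∀ n : ℕ, (X u h1 * X v h2) ^ n = 1 ↔ mk (g u * g v) ^ n = 1 := fun n =>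
      Subtype.ext_iff
    have e4 : X u h1 * X v h2 = 1 ↔ mk (g u * g v) = 1 := Subtype.ext_iff
    simp only [e3, e4, mk_pow_two_iff, mk_pow_three_iff, mk_pow_four_iff, mk_pow_five_iff, e1, e2]
    refine ⟨fun e => ?_, Or.imp_left fun e => by simpa [hδ] using e, Or.imp_left fun e => ?_,
      Or.imp_left fun e => ?_, Or.imp_left fun e => ?_⟩
    · obtain ⟨c, e⟩ := mk_eq_mk_iff.1 (mk_one.trans e.symm)
      have e5 : (c : F) • (1 : Matrix (Fin 2) (Fin 2) F) = mm δ (a u) * mm δ (a v) := by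
        rw [← hg' u h1, ← hg' v h2, ← Units.val_mul, ← e]
        simp [scalar_apply, smul_one_eq_diagonal]
      have e6 := congrArg (fun A => δ⁻¹ • phi s t w δ A * v) e5
      simp only [phi_smul, h.phi_one, h.phi_mm_mm, ha u h1, ha v h2, smul_smul,
        inv_mul_cancel₀ hδ, one_smul, smul_mul_assoc, one_mul, mul_assoc, h2.1.2.1, mul_one] at e6
      have e7 := R.qW h1.1
      rw [← e6, qW_smul, R.qW h2.1, mul_one, sq] at e7
      rcases mul_self_eq_one_iff.1 e7 with e | e <;> simp [← e6, e]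
    · exact mul_left_cancel₀ (pow_ne_zero 2 hδ) (by linear_combination e)
    · exact (mul_eq_zero.1 e).imp (fun e => by simpa [hδ] using e) fun e =>
        mul_left_cancel₀ (pow_ne_zero 2 hδ) (by linear_combination e)
    · exact mul_left_cancel₀ (pow_ne_zero 4 hδ) (by linear_combination e)
  have mx : x ∈ Rt G ∧ x ∈ U := ⟨hx, Submodule.subset_span (by simp)⟩
  have my : y ∈ Rt G ∧ y ∈ U := ⟨hy, Submodule.subset_span (by simp)⟩
  have mz : z ∈ Rt G ∧ z ∈ U := ⟨hz, Submodule.subset_span (by simp)⟩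
  have n1 : (X x mx * X y my) ^ 2 ≠ 1 := fun e => hg (by
    rcases (pr x mx y my).1 (((pr x mx y my).2.1 e).resolve_left hxy) with e | e <;>
      simp only [gram3, e, bW_neg_left, R.bW_self hy] <;> ring)
  have n2 : (X y my * X z mz) ^ 2 ≠ 1 := fun e => hg (by
    rcases (pr y my z mz).1 (((pr y my z mz).2.1 e).resolve_left hyz) with e | e <;>
      simp only [gram3, e, bW_neg_left, bW_neg_right, R.bW_self hz] <;> ring)
  have n3 : gtr (g x * g y * g z) ≠ 0 := fun e => by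
    have := h.trace_three (a := a x) (b := a y) (c := a z) (by rw [ha x mx, R.qW hx])
      (by rw [ha y my, R.qW hy]) (by rw [ha z mz, R.qW hz])
    rw [← hg' x mx, ← hg' y my, ← hg' z mz, ← Units.val_mul, ← Units.val_mul, ← gtr_eq, e,
      ha x mx, ha y my, ha z mz] at this
    simp [hδ, hg] at this
  have c1 : (∀ γ : Γ, γ ^ 2 = 1 ∨ γ ^ 3 = 1 ∨ γ ^ 5 = 1) → ∀ u ∈ Rt G, ∀ v ∈ Rt G, u ∈ U →
      v ∈ U → u = v ∨ u = -v ∨ bW u v = 0 ∨ bW u v ^ 2 = 1 ∨ Tau (bW u v ^ 2) := by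
    intro H u h1 v h2 h3 h4
    obtain ⟨p1, p2, p3, -, p5⟩ := pr u ⟨h1, h3⟩ v ⟨h2, h4⟩
    have p0 : ∀ {P : Prop}, X u ⟨h1, h3⟩ * X v ⟨h2, h4⟩ = 1 → u = v ∨ u = -v ∨ P :=
      fun e => (p1 e).imp_right Or.inl
    rcases H (X u ⟨h1, h3⟩ * X v ⟨h2, h4⟩) with e | e | e
    · exact (p2 e).elim (fun e => Or.inr (Or.inr (Or.inl e))) p0
    · exact (p3 e).elim (fun e => Or.inr (Or.inr (Or.inr (Or.inl e)))) p0
    · exact (p5 e).elim (fun e => Or.inr (Or.inr (Or.inr (Or.inr e)))) p0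
  have c2 : ∀ ψ : Γ →* Equiv.Perm (Fin 4), Function.Injective ψ → ∃ χ : M4 F → Bool,
      ∀ u ∈ Rt G, ∀ v ∈ Rt G, u ∈ U → v ∈ U →
      ((u = v ∨ u = -v ∨ bW u v ^ 2 = 1) ∧ χ u = χ v) ∨ bW u v = 0 ∨
        (bW u v ^ 2 = 2 ∧ χ u ≠ χ v) := fun ψ hψ => by
    refine ⟨fun u => if h1 : u ∈ Rt G ∧ u ∈ U then decide (Equiv.Perm.sign (ψ (X u h1)) = 1)
      else true, fun u h1 v h2 h3 h4 => ?_⟩
    obtain ⟨p1, p2, p3, p4, -⟩ := pr u ⟨h1, h3⟩ v ⟨h2, h4⟩
    have := s4 (ψ (X u ⟨h1, h3⟩ * X v ⟨h2, h4⟩))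
    have e : ∀ a b : ℤˣ, (a * b = 1 ↔ decide (a = 1) = decide (b = 1)) ∧
        (a * b = -1 ↔ ¬ a * b = 1) := by decide
    have e' : X u ⟨h1, h3⟩ * X v ⟨h2, h4⟩ = 1 →
        Equiv.Perm.sign (ψ (X u ⟨h1, h3⟩ * X v ⟨h2, h4⟩)) = 1 := fun e => by simp [e]
    simp only [← map_pow, Ne, map_eq_one_iff ψ hψ] at this
    simp only [map_mul, (e _ _).2, (e _ _).1] at this e'
    simp only [dif_pos (And.intro h1 h3), dif_pos (And.intro h2 h4), Ne]
    have p0 := fun e => And.intro ((p1 e).imp_right (Or.inl (b := bW u v ^ 2 = 1))) (e' e)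
    rcases this with ⟨e, f⟩ | ⟨e, f⟩ | ⟨e, f⟩
    · exact (p3 e).elim (fun e => Or.inl ⟨Or.inr (Or.inr e), f⟩) fun e => Or.inl (p0 e)
    · exact (p2 e).elim (fun e => Or.inr (Or.inl e)) fun e => Or.inl (p0 e)
    · exact (p4 e).elim (fun e => Or.inr (e.imp_right fun e => ⟨e, f⟩)) fun e => Or.inl (p0 e)
  have c3 : ∀ {H : Type} [Group H], Nonempty (Γ ≃* H) →
      (∀ γ : H, γ ^ 2 = 1 ∨ γ ^ 3 = 1 ∨ γ ^ 5 = 1) →
      ∀ γ : Γ, γ ^ 2 = 1 ∨ γ ^ 3 = 1 ∨ γ ^ 5 = 1 := fun ⟨e⟩ H γ => by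
    simpa only [← map_pow, map_eq_one_iff e e.injective] using H (e γ)
  obtain ⟨p, hp⟩ := CharP.exists F
  have := Fact.mk (CharP.char_is_prime F p)
  rcases pgl2_dickson' p Γ.subtype Γ.subtype_injective with ⟨o, e⟩ | ⟨e, -⟩ | ⟨c, -, -, ⟨e⟩⟩ |
    ⟨-, e | ⟨⟨e⟩⟩ | e⟩ | ⟨-, e⟩ | ⟨T, K, hK, e⟩
  · exact absurd (gtr_tri o (t1 x mx) (t1 y my) (t1 z mz) (e (X x mx)) (e (X y my))
      (e (X z mz))) n3
  · exact absurd (by
      rw [Commute.mul_pow (e.isMulCommutative.is_comm.comm _ _), x2 x mx, x2 y my, one_mul]) n1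
  · obtain ⟨h1, h2⟩ := dih (a := e (X x mx)) (b := e (X y my)) (c := e (X z mz))
      (by rw [← map_pow, x2 x mx, map_one]) (by rw [← map_pow, x2 y my, map_one])
      (by rw [← map_pow, x2 z mz, map_one])
      (by rwa [← map_mul, ← map_pow, Ne, map_eq_one_iff e e.injective])
      (by rwa [← map_mul, ← map_pow, Ne, map_eq_one_iff e e.injective])
    simp only [← map_mul, ← map_pow, Ne, map_eq_one_iff e e.injective] at h1 h2
    exact absurd (((mk_pow_two_iff (g x * g y * g z)).1 (congrArg Subtype.val h1)).resolve_right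
      fun e => h2 (Subtype.ext e)) n3
  · exact Or.inr (c1 (c3 e a4))
  · exact Or.inl (c2 e e.injective)
  · exact Or.inr (c1 (c3 e alt5_pow))
  · exact Or.inr (c1 (c3 e alt5_pow))
  rw [range_subtype] at e
  by_cases h3 : Nat.card K = 3
  · have hle : Γ ≤ (subPGL K).map (MulAut.conj T).toMonoidHom :=
      e.elim le_of_eq fun e => e.2.le.trans (map_mono (subPSL_le K))
    obtain ⟨e1⟩ := H93.L2.pgl_three_equiv h3
    let e2 := ((subPGLEquiv K).trans (equivMapOfInjective _ (MulAut.conj T).toMonoidHom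
      (MulAut.conj T).injective)).symm.trans e1
    exact Or.inl (c2 (e2.toMonoidHom.comp (inclusion hle))
      (e2.injective.comp (inclusion_injective hle)))
  have hge : (subPSL K).map (MulAut.conj T).toMonoidHom ≤ Γ :=
    e.elim (fun e => (map_mono (subPSL_le K)).trans e.ge) fun e => e.2.ge
  obtain ⟨μ, hμ⟩ : ∃ μ : K, μ ∉ ({0, 1, -1} : Finset K) := by
    have := Fintype.ofFinite K
    by_contra e
    push Not at e
    have := (Finset.card_le_card fun a (_ : a ∈ Finset.univ) => e a).trans Finset.card_le_three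
    rw [Finset.card_univ, ← Nat.card_eq_fintype_card] at this
    omega
  induction T using ProjGenLinGroup.induction_on with | mk T =>
  have key : ∀ a : K, mk (T * gl2 1 (a : F) 0 1 (by simp) * T⁻¹) ∈ Γ := fun a =>
    hge ⟨_, ⟨_, ⟨⟨!![1, a; 0, 1], by simp⟩, rfl⟩, rfl⟩, by
      simp only [map_mul, map_inv, MulEquiv.coe_toMonoidHom, MulAut.conj_apply]
      congr 2
      refine congrArg mk (Units.ext ?_)
      ext i j
      fin_cases i <;> fin_cases j <;> rfl⟩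
  refine absurd ?_ hμ
  simp only [Finset.mem_insert, Finset.mem_singleton, Subtype.ext_iff]
  exact unip S hu h T (μ := μ) (by
    rintro a (rfl | rfl)
    exacts [key 1, key μ])

omit [Finite F] in
theorem flat (S : Std G) (hu : ¬ UStar G) {x y s : M4 F} (hx : x ∈ Rt G) (hy : y ∈ Rt G)
    (hs : s ∈ Wsp F) (s0 : s ≠ 0) (ss : s * s = 0) (sx : bW s x = 0) (sy : bW s y = 0) {α γ : F}
    (hz : α • x + γ • y + s ∈ Rt G) (h0 : bW x y ≠ 0) (h4 : bW x y ^ 2 ≠ 4) :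
    bW x y ^ 2 = 1 ∨ bW x y ^ 2 = 2 := by
  have h2 := S.two
  have R := S.rs
  have neg : ∀ v ∈ Wsp F, bW s v = 0 → InG G (1 + s * v) → InG G (1 + s * (-v)) := fun v h h' e =>
    e.of_mul_eq_one (by rw [eich_mul h2 hs ss h h', add_neg_cancel, mul_zero, add_zero])
  have refl : ∀ r ∈ Rt G, bW s r = 0 → ∀ v ∈ Wsp F, bW s v = 0 → InG G (1 + s * v) →
      InG G (1 + s * (bW v r • r)) := fun r hr sr v hv sv e => by
    have e1 := (hr.2.2.mul (neg v hv sv e)).mul hr.2.2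
    have : r * (1 + s * (-v)) * r = 1 + s * (bW v r • r - v) := by
      have e2 := sandwich h2 hr.1 hv
      rw [R.qW hr, one_smul] at e2
      rw [← e2, mul_add, add_mul, mul_one, hr.2.1, ← mul_assoc, anti_of_perp h2 hs hr.1 sr]
      simp only [mul_assoc, neg_mul_neg]
    have e3 := e.mul (this ▸ e1)
    rwa [eich_mul h2 hs ss hv sv, add_sub_cancel] at e3
  have fin : ∀ r ∈ Rt G, bW s r = 0 → ∀ r' ∈ Rt G, bW s r' = 0 → bW r r' ≠ 0 → ∀ c : F,
      c ≠ 0 → InG G (1 + s * (c • r)) → bW r r' ^ 2 = 1 ∨ bW r r' ^ 2 = 2 := by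
    intro r hr sr r' hr' sr' b0 c c0 e
    have m : ∀ (k : F) {v : M4 F}, v ∈ Rt G → k • v ∈ Wsp F := fun k v hv =>
      Submodule.smul_mem _ k hv.1
    have E : Eich s (c • r) := ⟨hs, m c hr, s0, ss, by simp [bW_smul_right, sr], by
      rw [qW_smul, R.qW hr, mul_one]; exact pow_ne_zero 2 c0⟩
    have e1 := mu hu E (μ := 2) e (by
      rw [two_smul, ← eich_mul h2 hs ss E.yW E.perp]; exact e.mul e)
    have e2 := refl r hr sr _ (m _ hr') (by simp [bW_smul_right, sr'])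
      (refl r' hr' sr' _ E.yW E.perp e)
    have e3 : (2 : F) = -1 := (e1.resolve_left h2).resolve_left fun e =>
      one_ne_zero (α := F) (by linear_combination e)
    rw [e3]
    refine (mu hu E e ?_).resolve_left (pow_ne_zero 2 b0)
    convert e2 using 3
    rw [bW_smul_left, bW_smul_left, bW_comm r' r, smul_smul]
    congr 1
    ring
  have q := R.qW hz
  have qs := qW_of_sq h2 (c := 0) (ss.trans (zero_smul _ _).symm)
  simp only [qW_add h2, qW_smul, R.qW hx, R.qW hy, qs, bW_add_left, bW_smul_left, bW_smul_right,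
    bW_comm x s, bW_comm y s, sx, sy] at q
  have e := (hz.2.2.mul hy.2.2).mul hx.2.2
  have r1 := anti_of_perp h2 hs hx.1 sx
  have r2 := anti_of_perp h2 hs hy.1 sy
  have r3 := swap h2 hx.1 hy.1
  have l : ∀ {A B C : M4 F}, A * B = C → ∀ X : M4 F, A * (B * X) = C * X := fun h X => by
    rw [← h, mul_assoc]
  have e1 : (α • x + γ • y + s) * y * x * ((α • x + γ • y + s) * y * x) =
      1 + s * ((2 * α - bW x y * (α * bW x y + γ)) • x + (α * bW x y + 2 * γ) • y) := by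
    simp only [mul_add, add_mul, mul_sub, sub_mul, smul_mul_assoc, mul_smul_comm, mul_assoc,
      mul_neg, neg_mul, mul_one, one_mul, mul_zero, zero_mul, r1, r2, r3, ss, hx.2.1, hy.2.1,
      l r1, l r2, l r3, l ss, l hx.2.1, l hy.2.1]
    match_scalars <;> first | ring1 | linear_combination q
  have e2 := e1 ▸ e.mul e
  have hW := add_mem (Submodule.smul_mem _ (2 * α - bW x y * (α * bW x y + γ)) hx.1)
    (Submodule.smul_mem _ (α * bW x y + 2 * γ) hy.1)
  have hp : bW s ((2 * α - bW x y * (α * bW x y + γ)) • x + (α * bW x y + 2 * γ) • y) = 0 := by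
    simp [bW_add_right, bW_smul_right, sx, sy]
  have h4' := sub_ne_zero.2 h4.symm
  by_cases hα : α = 0
  · rw [bW_comm x y] at h0 ⊢
    refine fin y hy sy x hx sx h0 _ ?_ (refl y hy sy _ hW hp e2)
    have hγ : γ ≠ 0 := fun e => by simp [hα, e] at q
    convert mul_ne_zero hγ h4' using 1
    simp only [bW_add_left, bW_smul_left, R.bW_self hy, hα]
    ring
  · refine fin x hx sx y hy sy h0 _ ?_ (refl x hx sx _ hW hp e2)
    convert mul_ne_zero hα h4' using 1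
    simp only [bW_add_left, bW_smul_left, R.bW_self hx, bW_comm y x]
    ring

theorem vals (S : Std G) (hu : ¬ UStar G) (hc : Conn (Rt G)) {x y : M4 F} (hx : x ∈ Rt G)
    (hy : y ∈ Rt G) (h0 : bW x y ≠ 0) (h4 : bW x y ^ 2 ≠ 4) :
    bW x y ^ 2 = 1 ∨ bW x y ^ 2 = 2 ∨ Tau (bW x y ^ 2) := by
  have h2 := S.two
  have R := S.rs
  obtain ⟨z, hz, v, hv, e⟩ : ∃ z ∈ Rt G, ∃ v ∈ Submodule.span F {x, y},
      bW v z • z ∉ Submodule.span F {x, y} := by
    by_contra e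
    push Not at e
    have := Submodule.finrank_mono (hc _ e ⟨x, hx, Submodule.subset_span (by simp)⟩)
    have h3 := finrank_range_le_card (R := F) ![x, y]
    rw [Set.finrank, Matrix.range_cons_cons_empty] at h3
    rw [finrank_Wsp h2] at this
    simp at h3
    omega
  have hz' : z ∉ Submodule.span F {x, y} := fun e' => e (Submodule.smul_mem _ _ e')
  have hb : bW x z ≠ 0 ∨ bW y z ≠ 0 := by
    by_contra e'
    push Not at e'
    obtain ⟨a, b, rfl⟩ := Submodule.mem_span_pair.1 hv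
    simp [bW_add_left, bW_smul_left, e'] at e
  clear e hv
  wlog hyz : bW y z ≠ 0 generalizing x y
  · rw [bW_comm x y] at h0 h4 ⊢
    exact this hy hx h0 h4 (by rwa [Set.pair_comm]) hb.symm (hb.resolve_right hyz)
  by_cases hg : gram3 x y z = 0
  · have h4' := sub_ne_zero.2 h4.symm
    set α := (2 * bW x z - bW x y * bW y z) / (4 - bW x y ^ 2) with hα
    set γ := (2 * bW y z - bW x y * bW x z) / (4 - bW x y ^ 2) with hγ
    have hs : z - α • x - γ • y ∈ Wsp F :=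
      sub_mem (sub_mem hz.1 (Submodule.smul_mem _ _ hx.1)) (Submodule.smul_mem _ _ hy.1)
    have sx : bW (z - α • x - γ • y) x = 0 := by
      simp only [bW_sub_left, bW_smul_left, R.bW_self hx, bW_comm z, bW_comm y x, hα, hγ]
      field_simp
      ring
    have sy : bW (z - α • x - γ • y) y = 0 := by
      simp only [bW_sub_left, bW_smul_left, R.bW_self hy, bW_comm z, hα, hγ]
      field_simp
      ring
    have ss : bW (z - α • x - γ • y) (z - α • x - γ • y) = 0 := by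
      rw [bW_sub_right, bW_sub_right, bW_smul_right, bW_smul_right, sx, sy]
      simp only [bW_sub_left, bW_smul_left, R.bW_self hz, hα, hγ]
      rw [gram3] at hg
      field_simp
      linear_combination 2 * hg
    refine (flat S hu hx hy hs (fun e => hz' ?_) ?_ sx sy (α := α) (γ := γ)
      (by simpa using hz) h0 h4).imp_right Or.inl
    · exact Submodule.mem_span_pair.2 ⟨α, γ, by rw [sub_sub, sub_eq_zero] at e; exact e.symm⟩
    · rw [bW_self h2] at ss
      rw [mul_self h2 hs, (mul_eq_zero.1 ss).resolve_left h2, zero_smul]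
  have n1 : x ≠ y := fun e => h4 (by rw [e, R.bW_self hy]; norm_num)
  have n2 : x ≠ -y := fun e => h4 (by rw [e, bW_neg_left, R.bW_self hy]; norm_num)
  have mx : x ∈ Submodule.span F {x, y, z} := Submodule.subset_span (by simp)
  have my : y ∈ Submodule.span F {x, y, z} := Submodule.subset_span (by simp)
  rcases three S hu hx hy hz h0 hyz hg with ⟨χ, e⟩ | e <;> have := e x hx y hy mx my <;> tauto

end Triple

open Triple

theorem tame (S : Std G) (hu : ¬ UStar G) (hc : Conn (Rt G)) : Tame (Rt G) := by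
  have h2 := S.two
  have R := S.rs
  have line : ∀ u s : M4 F, u ∈ Rt G → u + s ∈ Rt G → s ≠ 0 → s * s = 0 →
      Eich s u ∧ InG G (1 + s * u) := fun u s h1 h3 s0 ss => by
    have hs : s ∈ Wsp F := by simpa using sub_mem h3.1 h1.1
    have q := R.qW h3
    rw [qW_add h2, R.qW h1, qW_of_sq h2 (c := 0) (ss.trans (zero_smul _ _).symm), bW_comm] at q
    exact ⟨⟨hs, h1.1, s0, ss, by linear_combination q, by simp [R.qW h1]⟩, by
      simpa [add_mul, h1.2.1] using h3.2.2.mul h1.2.2⟩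
  refine ⟨R, fun h3 x hx y hy e => ?_, fun x hx y hy => ?_,
    fun x hx y hy z hz => three S hu hx hy hz, fun u s μ h1 h3 h4 s0 ss => ?_⟩
  · by_contra hne
    obtain ⟨E, h1⟩ := line x (y - x) hx (by simpa using hy) (sub_ne_zero.2 (Ne.symm hne)) (by
      rw [sub_mul, mul_sub, mul_sub, hx.2.1, hy.2.1, swap h2 hx.1 hy.1, e]; module)
    rcases mu hu E (μ := 2) h1 (by
      rw [two_smul, ← eich_mul h2 E.sW E.sq E.yW E.perp]; exact h1.mul h1) with e | e | e
    · exact h2 e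
    · exact one_ne_zero (α := F) (by linear_combination e)
    · exact h3 (by linear_combination e)
  · by_cases h0 : bW x y = 0
    · exact Or.inl h0
    by_cases h4 : bW x y ^ 2 = 4
    · tauto
    have := vals S hu hc hx hy h0 h4
    tauto
  · obtain ⟨E, h5⟩ := line u s h1 h3 s0 ss
    exact mu hu E h5 (by simpa [add_mul, h1.2.1] using h4.2.2.mul h1.2.2)

end Cfsg.Agent.DIM4
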