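import Cfsg.Agent.DIM4.Stab
import Cfsg.Agent.DIM4.UForm
import Cfsg.Agent.DIM4.UFull
import Cfsg.Agent.DIM4.Triple
import Cfsg.Agent.DIM4.Frame

/-! Project DIM4: the stabiliser of a frame is maximal in `Sp₄(p)`. -/

set_option autoImplicit false

namespace Cfsg.Agent.DIM4

open Matrix

namespace Ext

open FrmA Finset

variable {F : Type*} [Field F] {D : Set (M4 F)} {x : Fin 5 → M4 F}

theorem sandwich_swap (h : RS D) (hx : Orth D x) {a b : Fin 5} (hab : a ≠ b) (m : Fin 5) :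
    (x a - x b) * x m * (x a - x b) = (-2 : F) • x (Equiv.swap a b m) ∧ qW (x a - x b) = 2 := by
  have q : qW (x a - x b) = 2 := mul_left_cancel₀ h.two (by
    rw [← bW_self h.two, bW_sub_left, bW_sub_right, bW_sub_right, h.bW_self (hx.1 a),
      h.bW_self (hx.1 b), hx.2 a b hab, hx.2 b a hab.symm]; ring)
  refine ⟨?_, q⟩
  rw [sandwich h.two (sub_mem (h.mem _ (hx.1 a)) (h.mem _ (hx.1 b))) (h.mem _ (hx.1 m)), q,
    bW_sub_right]
  by_cases ha : m = a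
  · rw [ha, Equiv.swap_apply_left, h.bW_self (hx.1 a), hx.2 a b hab]; module
  by_cases hb : m = b
  · rw [hb, Equiv.swap_apply_right, h.bW_self (hx.1 b), hx.2 b a hab.symm]; module
  rw [Equiv.swap_apply_of_ne_of_ne ha hb, hx.2 m a ha, hx.2 m b hb]; module

theorem exists_perm (h : RS D) (hx : Orth D x) {a b c d : Fin 5} (hab : a ≠ b) (hcd : c ≠ d) :
    ∃ t ∈ Cfsg.spGL 2 F, ∀ m, (t : M4 F) * x m * ((t⁻¹ : G4 F) : M4 F) =
      x (Equiv.swap a b (Equiv.swap c d m)) := by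
  have t := h.two
  have m1 := sub_mem (h.mem _ (hx.1 a)) (h.mem _ (hx.1 b))
  have m2 := sub_mem (h.mem _ (hx.1 c)) (h.mem _ (hx.1 d))
  have e := adj_pair t m1 m2 (d := 1 / 2) (by
    rw [(sandwich_swap h hx hab a).2, (sandwich_swap h hx hcd a).2]; field_simp)
  refine ⟨_, spOf_mem _ e, fun m => ?_⟩
  rw [← adj_coe (spOf_mem _ e), coe_spOf, adj_smul, adj_mul, m1.1, m2.1]
  calc _ = (1 / 2 * (1 / 2) : F) • ((x a - x b) * ((x c - x d) * x m * (x c - x d)) * (x a - x b)) := by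
        simp only [Matrix.smul_mul, Matrix.mul_smul, smul_smul, Matrix.mul_assoc]
    _ = _ := by
        rw [(sandwich_swap h hx hcd m).1, Matrix.mul_smul, Matrix.smul_mul,
          (sandwich_swap h hx hab _).1, smul_smul, smul_smul,
          show (1 / 2 * (1 / 2) * -2 * -2 : F) = 1 by field_simp, one_smul]

theorem two_trans : ∀ i j k : Fin 5, i ≠ j → i ≠ k → ∃ a b, a ≠ b ∧ ∃ c d, c ≠ d ∧
    Equiv.swap a b (Equiv.swap c d i) = i ∧ Equiv.swap a b (Equiv.swap c d j) = k := by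
  decide +kernel

theorem exists_ne_zero (h : RS D) (hx : Orth D x) {v : M4 F} (hv : v ∈ Wsp F) (h0 : v ≠ 0) :
    ∃ i, bW v (x i) ≠ 0 := by
  by_contra! hn
  exact h0 ((hx.expand h hv).trans (sum_eq_zero fun i _ => by rw [hn i, zero_div, zero_smul]))

theorem two_supp (h : RS D) (hx : Orth D x) {y : M4 F} (hy : y ∈ D)
    (hn : ∀ j, y ≠ x j ∧ y ≠ -x j) : ∃ i j, i ≠ j ∧ bW y (x i) ≠ 0 ∧ bW y (x j) ≠ 0 := by
  obtain ⟨i, hi⟩ := exists_ne_zero h hx (h.mem y hy) (h.ne_zero hy)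
  by_contra! hc
  have e : y = (bW y (x i) / 2) • x i := (hx.expand h (h.mem y hy)).trans
    (sum_eq_single i (fun j _ hj => by rw [hc i j hj.symm hi, zero_div, zero_smul]) (by simp))
  have yy := h.sq y hy
  generalize bW y (x i) / 2 = c at e
  rw [e, Matrix.smul_mul, Matrix.mul_smul, h.sq _ (hx.1 i), smul_smul] at yy
  have : c * c = 1 := by simpa using congrFun (congrFun yy (.inl 0)) (.inl 0)
  rcases mul_self_eq_one_iff.1 this with rfl | rfl
  · exact (hn i).1 (by simpa using e)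
  · exact (hn i).2 (by simpa using e)

theorem conn_of (h : RS D) (hx : Orth D x)
    (hm : ∀ i j k, i ≠ j → i ≠ k → ∀ y ∈ D, ∃ z ∈ D, bW z (x i) = bW y (x i) ∧
      bW z (x k) = bW y (x j))
    {y : M4 F} (hy : y ∈ D) (hn : ∀ j, y ≠ x j ∧ y ≠ -x j) : Conn D := by
  obtain ⟨i, j, hij, hi, hj⟩ := two_supp h hx hy hn
  have step : ∀ i j k, i ≠ j → i ≠ k → (∃ y ∈ D, bW y (x i) ≠ 0 ∧ bW y (x j) ≠ 0) →
      ∃ y ∈ D, bW y (x k) ≠ 0 ∧ bW y (x i) ≠ 0 := fun i j k a b ⟨y, hy, c, d⟩ =>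
    let ⟨z, hz, e, f⟩ := hm i j k a b y hy; ⟨z, hz, f ▸ d, e ▸ c⟩
  have all : ∀ k l, k ≠ l → ∃ y ∈ D, bW y (x l) ≠ 0 ∧ bW y (x k) ≠ 0 := fun k l hkl => by
    by_cases e : i = k
    · exact e ▸ step i j l hij (e ▸ hkl) ⟨y, hy, hi, hj⟩
    · exact step k i l (Ne.symm e) hkl (step i j k hij e ⟨y, hy, hi, hj⟩)
  rintro T hT ⟨z, hz, zT⟩ v hv
  have pass : ∀ u ∈ T, ∀ w ∈ D, bW u w ≠ 0 → w ∈ T := fun u hu w hw h0 =>
    (Submodule.smul_mem_iff _ h0).1 (hT w hw u hu)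
  obtain ⟨k, hk⟩ := exists_ne_zero h hx (h.mem z hz) (h.ne_zero hz)
  have xk := pass z zT _ (hx.1 k) hk
  rw [hx.expand h hv]
  refine sum_mem fun l _ => Submodule.smul_mem _ _ ?_
  by_cases e : k = l
  · exact e ▸ xk
  · obtain ⟨w, hw, a, b⟩ := all k l e
    exact pass w (pass _ xk w hw (bW_comm w _ ▸ b)) _ (hx.1 l) a

theorem comb : ∀ A : Finset (Fin 5), A.card = 2 → ∀ B : Finset (Fin 5), B.card = 2 →
    (A ∩ B).card ≠ 1 → ¬ B ⊆ A → ∀ C : Finset (Fin 5), C.card = 2 → (A ∩ C).card ≠ 1 →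
    (B ∩ C).card ≠ 1 → C ⊆ A ∪ B := by decide +kernel

/-- Two frames cannot make angles of `45` and `90` degrees only. -/
theorem two_frames (h : RS D) (h3 : (3 : F) = 0 → ∀ a : F, a ^ 2 ≠ 2) (hx : Orth D x)
    {f : Fin 5 → M4 F} (hf : Orth D f) (hb : ∀ k j, bW (f k) (x j) ≠ 0 → bW (f k) (x j) ^ 2 = 2) :
    False := by
  have t := h.two
  have c2 : ∀ k, (supp fun j => bW (f k) (x j)).card = 2 := fun k => by
    have e := hx.parseval h (h.mem _ (hf.1 k)) (f k)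
    rw [h.bW_self (hf.1 k), sum_inter (fun j => bW (f k) (x j)) fun j => bW (f k) (x j), inter_self,
      sum_congr rfl fun j hj => (sq _).symm.trans (hb k j (mem_supp.1 hj)), sum_const,
      nsmul_eq_mul] at e
    have e' := mul_right_cancel₀ t e
    have c5 : (supp fun j => bW (f k) (x j)).card ≤ 5 := (card_le_univ _).trans (by simp)
    have n1 := one_ne_zero (α := F)
    have p5 : (supp fun j => bW (f k) (x j)).card = 5 → (3 : F) ≠ 0 := fun e5 e3 => by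
      obtain ⟨j, hj⟩ := card_pos.1 (by omega : 0 < (supp fun j => bW (f k) (x j)).card)
      exact h3 e3 _ (hb k j (mem_supp.1 hj))
    generalize (supp fun j => bW (f k) (x j)).card = n at e' c5 p5
    interval_cases n
    · exact (t (by simpa using e')).elim
    · exact (n1 (by push_cast at e'; linear_combination e')).elim
    · rfl
    · exact (n1 (by push_cast at e'; linear_combination -e')).elim
    · exact (t (by push_cast at e'; linear_combination -e')).elim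
    · exact (p5 rfl (by push_cast at e'; linear_combination -e')).elim
  have c1 : ∀ k l, ((supp fun j => bW (f k) (x j)) ∩ supp fun j => bW (f l) (x j)).card ≠ 1 := by
    intro k l e
    by_cases hkl : k = l
    · rw [hkl, inter_self, c2] at e; omega
    obtain ⟨i, hi⟩ := card_eq_one.1 e
    have hi' := mem_inter.1 (hi ▸ mem_singleton_self i)
    have e := hx.parseval h (h.mem _ (hf.1 l)) (f k)
    rw [hf.2 l k (Ne.symm hkl), mul_zero,
      sum_inter (fun j => bW (f k) (x j)) fun j => bW (f l) (x j), hi, sum_singleton] at e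
    exact mul_ne_zero (mem_supp.1 hi'.2) (mem_supp.1 hi'.1) e.symm
  have cov : ∀ A : Finset (Fin 5), A.card < 5 → ∃ k, ¬ (supp fun j => bW (f k) (x j)) ⊆ A := by
    intro A hA
    obtain ⟨m, hm⟩ : ∃ m, m ∉ A := by
      by_contra! hn
      rw [eq_univ_of_forall hn, card_univ, Fintype.card_fin] at hA
      omega
    obtain ⟨k, hk⟩ := exists_ne_zero h hf (h.mem _ (hx.1 m)) (h.ne_zero (hx.1 m))
    exact ⟨k, fun hs => hm (hs (mem_supp.2 (bW_comm (x m) _ ▸ hk)))⟩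
  obtain ⟨k, hk⟩ := cov (supp fun j => bW (f 0) (x j)) (by rw [c2]; omega)
  obtain ⟨l, hl⟩ := cov ((supp fun j => bW (f 0) (x j)) ∪ supp fun j => bW (f k) (x j))
    ((card_union_le _ _).trans_lt (by rw [c2, c2]; omega))
  exact hl (comb _ (c2 0) _ (c2 k) (c1 0 k) hk _ (c2 l) (c1 0 l) (c1 k l))

theorem prime_cast [Fintype F] (hp : (Fintype.card F).Prime) (a : F) : ∃ n : ℤ, a = n := by
  have : Fact (Nat.card F).Prime := ⟨by rwa [Nat.card_eq_fintype_card]⟩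
  obtain ⟨n, hn⟩ := mem_zmultiples_of_prime_card (p := Nat.card F) rfl (one_ne_zero (α := F))
    (g' := a)
  exact ⟨n, by simpa using hn.symm⟩

theorem three_cases [Fintype F] (hp : (Fintype.card F).Prime) (h3 : (3 : F) = 0) (a : F) :
    a = 0 ∨ a = 1 ∨ a = -1 := by
  obtain ⟨n, rfl⟩ := prime_cast hp a
  obtain ⟨m, e | e | e⟩ : ∃ m, n = 3 * m ∨ n = 3 * m + 1 ∨ n = 3 * m - 1 :=
    ⟨(n + 1) / 3, by omega⟩ <;> simp [e, h3]

end Ext

open Ext

variable {F : Type*} [Field F] [Fintype F]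

theorem frame_max (h2 : (2 : F) ≠ 0) (hp : (Fintype.card F).Prime) {x : Fin 5 → M4 F}
    (hx : Orth (Rt (Cfsg.spGL 2 F)) x) {N : Subgroup (G4 F)}
    (hN : ∀ g : G4 F, g ∈ N ↔ g ∈ Cfsg.spGL 2 F ∧ ∀ i, ∃ j,
        (g : M4 F) * x i * ((g⁻¹ : G4 F) : M4 F) = x j ∨
        (g : M4 F) * x i * ((g⁻¹ : G4 F) : M4 F) = -x j) :
    Cfsg.Geo.IsMaximalIn (Cfsg.spGL 2 F) N := by
  have R0 := (std_sp h2).rs
  have le : N ≤ Cfsg.spGL 2 F := fun g hg => ((hN g).1 hg).1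
  refine ⟨lt_of_le_of_ne le fun e => ?_, fun G hNG hG => ?_⟩
  · obtain ⟨g, hg, v, ⟨i, hv⟩, hn⟩ := exists_not_stab h2 (R := {v | ∃ i, v = x i ∨ v = -x i})
      (by
        rintro _ ⟨i, rfl | rfl⟩
        · exact (hx.1 i).1
        · exact neg_mem (hx.1 i).1)
      (fun v hv => by
        rw [hx.expand R0 hv]
        exact sum_mem fun i _ => Submodule.smul_mem _ _ (Submodule.subset_span ⟨i, Or.inl rfl⟩))
      (by
        rintro v ⟨i, hv⟩ w ⟨j, hw⟩ e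
        by_cases hij : i = j
        · subst hij
          rcases hv with rfl | rfl <;> rcases hw with rfl | rfl <;> simp
        · refine absurd ?_ h2
          rcases hv with rfl | rfl <;> rcases hw with rfl | rfl <;>
            simpa [bW_neg_left, bW_neg_right, hx.2 i j hij, R0.bW_self (hx.1 i)] using e.symm)
    obtain ⟨j, hj⟩ := ((hN g).1 (e ▸ hg)).2 i
    refine hn ⟨j, ?_⟩
    rcases hv with rfl | rfl
    · exact hj
    · rw [Matrix.mul_neg, Matrix.neg_mul]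
      exact hj.symm.imp (fun h => by rw [h, neg_neg]) fun h => by rw [h]
  refine or_iff_not_imp_left.2 fun hne => le_antisymm hG ?_
  obtain ⟨g, hg, hgN⟩ := SetLike.exists_of_lt (lt_of_le_of_ne hNG (Ne.symm hne))
  have S : Std G := ⟨h2, hG, hNG ((hN _).2 ⟨neg_one_mem_spGL, fun i => ⟨i, Or.inl (by simp)⟩⟩)⟩
  have hx' : Orth (Rt G) x := by
    refine ⟨fun i => ⟨(hx.1 i).1, (hx.1 i).2.1, ?_⟩, hx.2⟩
    obtain ⟨u, hu, e⟩ := (hx.1 i).2.2
    refine ⟨u, hNG ((hN u).2 ⟨hu, fun j => ⟨j, ?_⟩⟩), e⟩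
    rw [← adj_coe hu, e, (hx.1 i).1.1, sandwich h2 (hx.1 i).1 (hx.1 j).1, R0.qW (hx.1 i)]
    by_cases hij : j = i
    · left; rw [hij, R0.bW_self (hx.1 i)]; module
    · right; rw [hx.2 j i hij]; module
  have mv : ∀ i j k, i ≠ j → i ≠ k → ∃ t ∈ G, (t : M4 F) * x i * ((t⁻¹ : G4 F) : M4 F) = x i ∧
      (t : M4 F) * x j * ((t⁻¹ : G4 F) : M4 F) = x k := fun i j k a b => by
    obtain ⟨a, b, hab, c, d, hcd, e1, e2⟩ := two_trans i j k a b
    obtain ⟨t, ht, e⟩ := exists_perm R0 hx hab hcd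
    exact ⟨t, hNG ((hN t).2 ⟨ht, fun m => ⟨_, Or.inl (e m)⟩⟩), by rw [e, e1], by rw [e, e2]⟩
  obtain ⟨i0, hi0⟩ : ∃ i, ∀ j, (g : M4 F) * x i * ((g⁻¹ : G4 F) : M4 F) ≠ x j ∧
      (g : M4 F) * x i * ((g⁻¹ : G4 F) : M4 F) ≠ -x j := by
    by_contra! hn
    exact hgN ((hN g).2 ⟨hG hg, fun i => (hn i).imp fun j hj => or_iff_not_imp_left.2 hj⟩)
  have hc : Conn (Rt G) := conn_of S.rs hx' (fun i j k a b y hy => by
    obtain ⟨t, ht, e1, e2⟩ := mv i j k a b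
    exact ⟨_, S.conj_mem ht hy, by rw [← bW_conj t y, e1], by rw [← bW_conj t y, e2]⟩)
    (S.conj_mem hg (hx'.1 i0)) hi0
  by_cases hu : UStar G
  · obtain ⟨s, y, he, μ, μ0, μ1, μ2, m1, m2⟩ := hu
    obtain ⟨K, β, L, -, -, -, -, -, -, hK⟩ := uform S hc ⟨_, hx'.1 0⟩ he μ0 μ1 μ2 m1 m2
    obtain ⟨i, hi⟩ := exists_ne_zero S.rs hx' he.sW he.ne
    refine sp_le_of_eich S he.sW he.sq (hx'.1 i) hi (hK (eq_top_iff.2 fun a _ => ?_))
    obtain ⟨n, rfl⟩ := prime_cast hp a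
    exact intCast_mem K n
  have T := tame S hu hc
  obtain ⟨χ, hχ⟩ := T.colour
  have uq : ∀ t ∈ G, (∀ y ∈ Rt G, χ y = χ ((t : M4 F) * y * ((t⁻¹ : G4 F) : M4 F))) ∨
      ∀ y ∈ Rt G, χ y = !χ ((t : M4 F) * y * ((t⁻¹ : G4 F) : M4 F)) := fun t ht =>
    hc.colour_unique S.rs (ψ := fun y => χ ((t : M4 F) * y * ((t⁻¹ : G4 F) : M4 F)))
      fun y hy z hz h0 => by
        rw [hχ y hy z hz h0, hχ _ (S.conj_mem ht hy) _ (S.conj_mem ht hz) (by rwa [bW_conj]), bW_conj]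
  have fx : ∀ t ∈ G, ∀ i, (t : M4 F) * x i * ((t⁻¹ : G4 F) : M4 F) = x i →
      ∀ y ∈ Rt G, χ y = χ ((t : M4 F) * y * ((t⁻¹ : G4 F) : M4 F)) := fun t ht i e =>
    (uq t ht).resolve_right fun h => by
      have := h _ (hx'.1 i)
      rw [e] at this
      simp at this
  have col : ∀ k, χ (x k) = χ (x 0) := fun k => by
    obtain ⟨i, a, b⟩ := (by decide : ∀ k : Fin 5, ∃ i, i ≠ k ∧ i ≠ 0) k
    obtain ⟨t, ht, e1, e2⟩ := mv i k 0 a b
    rw [fx t ht i e1 _ (hx'.1 k), e2]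
  obtain ⟨T', hn⟩ := T.cls hχ (χ (x 0))
  have hx'' : Orth {y | y ∈ Rt G ∧ χ y = χ (x 0)} x := ⟨fun i => ⟨hx'.1 i, col i⟩, hx.2⟩
  by_cases hy : ∃ y ∈ Rt G, χ y = χ (x 0) ∧ ∀ j, y ≠ x j ∧ y ≠ -x j
  · obtain ⟨y, hy, cy, ny⟩ := hy
    obtain ⟨h3, -, hf⟩ := T'.frame hn (conn_of T'.toRS hx'' (fun i j k a b y hy => by
      obtain ⟨t, ht, e1, e2⟩ := mv i j k a b
      exact ⟨_, ⟨S.conj_mem ht hy.1, (fx t ht i e1 y hy.1).symm.trans hy.2⟩,
        by rw [← bW_conj t y, e1], by rw [← bW_conj t y, e2]⟩) ⟨hy, cy⟩ ny) hx''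
    exact sp_le_of_frame3 S (three_cases hp h3) hx' fun i ε a b => (hf i ε a b).1
  exfalso
  have opp := (uq g hg).resolve_left fun h =>
    hy ⟨_, S.conj_mem hg (hx'.1 i0), (h _ (hx'.1 i0)).symm.trans (col i0), hi0⟩
  refine two_frames S.rs (fun h3 a e => ?_) hx'
    (f := fun k => (g : M4 F) * x k * ((g⁻¹ : G4 F) : M4 F))
    ⟨fun k => S.conj_mem hg (hx'.1 k), fun k l hkl => by rw [bW_conj, hx.2 k l hkl]⟩
    fun k j h0 => ?_
  · rcases three_cases hp h3 a with rfl | rfl | rfl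
    · exact h2 (by linear_combination -e)
    · exact one_ne_zero (α := F) (by linear_combination -e)
    · exact one_ne_zero (α := F) (by linear_combination -e)
  · by_contra hb
    have e := (hχ _ (S.conj_mem hg (hx'.1 k)) _ (hx'.1 j) h0).2 hb
    have := opp _ (hx'.1 k)
    rw [e, col, col j] at this
    simp at this

end Cfsg.Agent.DIM4
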