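import Cfsg.Agent.DIM4.Irr
import Cfsg.Agent.DIM4.Frame
import Cfsg.Agent.DIM4.UTrace
import Cfsg.Agent.DIM4.UFull
import Cfsg.Agent.DIM4.SylA
import Cfsg.Agent.S0215

/-! A class of roots meets a Sylow 2-subgroup in exactly three pairs. -/

set_option autoImplicit false

namespace Cfsg.Agent.DIM4.Th

open Matrix Subgroup H92

variable {F : Type*} [Field F] [Finite F] {H P S : Subgroup (G4 F)} {D : Set (M4 F)}

/-- A `P`-invariant tame set of roots of `P` without angle of 45 degrees. -/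
structure Cls (P : Subgroup (G4 F)) (D : Set (M4 F)) : Prop where
  sub : D ⊆ Rt P
  tame : Tame D
  nosq : NoSq2 D
  inv : ∀ g ∈ P, ∀ x ∈ D, cg g x ∈ D

/-- `x` lists the elements of `D` in `S` up to sign. -/
structure Fm (S : Subgroup (G4 F)) (D : Set (M4 F)) {d : ℕ} (x : Fin d → M4 F) : Prop where
  orth : Orth D x
  mem : ∀ i, x i ∈ Rt S
  all : ∀ y ∈ D, InG S y → ∃ i, y = x i ∨ y = -x i

theorem Cls.exists_fm (c : Cls P D) (hS : IsPGroup 2 S) : ∃ d ≤ 5, ∃ x : Fin d → M4 F, Fm S D x := by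
  obtain ⟨d, hd, x, hx, hmax⟩ := exists_max (D := D ∩ Rt S) c.tame.two fun x hx => ⟨hx.2.1, hx.2.2.1⟩
  refine ⟨d, hd, x, ⟨fun i => (hx.1 i).1, hx.2⟩, fun i => (hx.1 i).2, fun y hy hyS => ?_⟩
  obtain ⟨i, hi⟩ := hmax y ⟨hy, c.tame.mem y hy, c.tame.sq y hy, hyS⟩
  obtain ⟨k, hk⟩ := InG.pow_two_pow hS (hyS.mul (hx.1 i).2.2.2)
  exact ⟨i, (pm_or_perp c.tame c.nosq hy (hx.1 i).1 hk).imp_right fun h => h.resolve_right hi⟩

omit [Finite F] in
theorem Fm.act {d : ℕ} {x : Fin d → M4 F} (f : Fm S D x) (c : Cls P D) (hle : S ≤ P) {g : G4 F}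
    (hg : g ∈ S) (i : Fin d) : ∃ j, cg g (x i) = x j ∨ cg g (x i) = -x j :=
  f.all _ (c.inv g (hle hg) _ (f.orth.1 i)) ((f.mem i).2.2.conj hg)

omit [Finite F] in
theorem Fm.conj {d : ℕ} {x : Fin d → M4 F} (f : Fm S D x) (c : Cls P D) {u g : G4 F} {i : Fin d}
    (hu : (u : M4 F) = x i) (hg : g ∈ P) (hS : g * u * g⁻¹ ∈ S) :
    ∃ j, ((g * u * g⁻¹ : G4 F) : M4 F) = x j ∨ ((g * u * g⁻¹ : G4 F) : M4 F) = -x j :=
  f.all _ (by simpa only [Units.val_mul, hu, cg] using c.inv g hg _ (f.orth.1 i)) (InG.of_mem hS)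

omit [Finite F] in
theorem cg_eq_neg {k : G4 F} {a w : M4 F} (hk : (k : M4 F) = a ∨ (k : M4 F) = -a)
    (h : a * w = -(w * a)) : cg k w = -w := by
  rw [cg_eq_iff]
  rcases hk with hk | hk <;> simp [hk, h]

omit [Finite F] in
theorem unit_sq {u : G4 F} {a : M4 F} (hu : (u : M4 F) = a) (ha : a * a = 1) : u * u = 1 :=
  Units.ext (by rw [Units.val_mul, hu, ha, Units.val_one])

theorem not_one (h : Res H P) (c : Cls P D) (hS : SylIn 2 S P) {x : Fin 1 → M4 F} (f : Fm S D x) :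
    False := by
  obtain ⟨u, hu, eu⟩ := (f.mem 0).2.2
  have st := std_syl h.std hS
  have hsimple := h.core.simple
  let π := QuotientGroup.mk' (ZP P)
  have hπ : Function.Surjective π := QuotientGroup.mk'_surjective _
  have hu1 : π ⟨u, hS.le hu⟩ ≠ 1 := by
    intro e
    have tr := (f.mem 0).1.2
    rcases h.mem_ZP.1 ((QuotientGroup.eq_one_iff _).1 e) with e | e <;>
      rw [← eu, show u = _ from e] at tr
    · exact four_ne h.two (by rwa [Units.val_one, trace_one4] at tr)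
    · exact four_ne h.two (by rwa [Units.val_neg, Units.val_one, trace_neg, trace_one4,
        neg_eq_zero] at tr)
  have ho : orderOf (π ⟨u, hS.le hu⟩) = 2 := orderOf_eq_prime (by
    rw [← map_pow, ← map_one π]; congr 1
    exact Subtype.ext (by rw [coe_pow, sq]; exact unit_sq eu (f.mem 0).2.1)) hu1
  obtain ⟨N, hN, hodd, hcm⟩ := S0215.result (hS.toSylow.mapSurjective hπ) _ ho
    ⟨⟨u, hS.le hu⟩, hu, rfl⟩ (by
      intro g hg
      obtain ⟨g, rfl⟩ := hπ g
      rw [← map_inv, ← map_mul, ← map_mul] at hg ⊢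
      obtain ⟨s, hs, es⟩ := hg
      have hs' : (s : G4 F) ∈ S := hs
      have h1 : (g : G4 F) * u * (g : G4 F)⁻¹ ∈ S := by
        have := h.mem_ZP.1 (QuotientGroup.eq.1 es)
        rw [← mul_mem_cancel_left (inv_mem hs')]
        rcases this with e | e
        · exact (show (s : G4 F)⁻¹ * (g * u * (g : G4 F)⁻¹) = 1 from e) ▸ S.one_mem
        · exact (show (s : G4 F)⁻¹ * (g * u * (g : G4 F)⁻¹) = -1 from e) ▸ st.neg
      obtain ⟨j, hj⟩ := f.conj c eu g.2 h1
      rw [Subsingleton.elim j 0, ← eu] at hj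
      refine QuotientGroup.eq.2 (h.mem_ZP.2 ?_)
      change ((g : G4 F) * u * (g : G4 F)⁻¹)⁻¹ * u = 1 ∨ ((g : G4 F) * u * (g : G4 F)⁻¹)⁻¹ * u = -1
      rcases hj with e | e
      · rw [Units.ext e]; simp
      · rw [show (g : G4 F) * u * (g : G4 F)⁻¹ = -u from Units.ext e]; simp)
  rcases hN.eq_bot_or_eq_top with rfl | rfl
  · have hc : π ⟨u, hS.le hu⟩ ∈ center _ := mem_center_iff.2 fun g => by
      have := mem_bot.1 (hcm g)
      rw [mul_inv_eq_one, mul_inv_eq_iff_eq_mul] at this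
      exact this.symm
    rcases (inferInstance : (center (P ⧸ ZP P)).Normal).eq_bot_or_eq_top with e | e
    · exact hu1 (mem_bot.1 (e ▸ hc))
    · exact h.core.nonabelian ⟨⟨fun a b => (mem_center_iff.1 (e ▸ mem_top b) a)⟩⟩
  · rw [card_top] at hodd
    have := orderOf_dvd_natCard (π ⟨u, hS.le hu⟩)
    rw [ho] at this
    exact (Nat.not_even_iff_odd.2 hodd) (even_iff_two_dvd.2 this)

theorem pm_false (h : Res H P) (c : Cls P D) (hS : SylIn 2 S P) {d : ℕ} {x : Fin (d + 1) → M4 F}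
    (f : Fm S D x) {ω : M4 F} (h0 : ω ≠ 0) (hω : ∀ g ∈ S, cg g ω = ω ∨ cg g ω = -ω)
    (ha : ∀ i, x i * ω = -(ω * x i)) : False := by
  obtain ⟨u, hu, eu⟩ := (f.mem 0).2.2
  have sc : ∀ g ∈ S, Sc {ω, -ω} g := fun g hg => (hω g hg).imp
    (fun e w hw => by rcases hw with rfl | rfl <;> simp only [cg_neg, e])
    (fun e w hw => by rcases hw with rfl | rfl <;> simp only [cg_neg, e])
  refine sign_false (T := {ω, -ω}) h.two h.core.perfect hS (.inl rfl) h0 (fun g hg w hw => ?_)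
    (fun a ha _ _ => .inl (sc a ha)) hu (unit_sq eu (f.mem 0).2.1) fun g hg hg' w hw => ?_
  · rcases sc g hg with e | e <;> rw [e w hw]
    · exact hw
    · rcases hw with rfl | rfl <;> simp
  · obtain ⟨j, hj⟩ := f.conj c eu hg hg'
    rcases hw with rfl | rfl
    · exact cg_eq_neg hj (ha j)
    · rw [cg_neg, cg_eq_neg hj (ha j)]

theorem not_two (h : Res H P) (c : Cls P D) (hS : SylIn 2 S P) {x : Fin 2 → M4 F} (f : Fm S D x) :
    False := by
  have h2 := h.two
  have a : x 1 * x 0 = -(x 0 * x 1) :=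
    anti_of_perp h2 (f.mem 0).1 (f.mem 1).1 (f.orth.2 0 1 (by decide))
  have rs := c.tame.toRS
  refine pm_false h c hS f (ω := x 0 * x 1) (fun e => ?_) (fun g hg => ?_) fun i => ?_
  · have := congrArg (x 0 * ·) e
    simp only [← Matrix.mul_assoc, (f.mem 0).2.1, Matrix.one_mul, Matrix.mul_zero] at this
    exact rs.ne_zero (f.orth.1 1) this
  · obtain ⟨i, hi⟩ := f.act c hS.le hg 0
    obtain ⟨j, hj⟩ := f.act c hS.le hg 1
    have hb : bW (cg g (x 0)) (cg g (x 1)) = 0 := (bW_conj g _ _).trans (f.orth.2 0 1 (by decide))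
    have hij : i ≠ j := by
      rintro rfl
      rcases hi with hi | hi <;> rcases hj with hj | hj <;>
        simp [hi, hj, bW_neg_left, bW_neg_right, rs.bW_self (f.orth.1 i), h2] at hb
    rw [cg_mul_cg]
    fin_cases i <;> fin_cases j <;> rcases hi with hi | hi <;> rcases hj with hj | hj <;>
      simp [hi, hj, a] at hij ⊢
  · fin_cases i
    · simp [Matrix.mul_assoc, a]
    · simp [← Matrix.mul_assoc, a]

theorem not_four (h : Res H P) (c : Cls P D) (hS : SylIn 2 S P) {x : Fin 4 → M4 F} (f : Fm S D x) :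
    False := by
  have h2 := h.two
  have rs := c.tame.toRS
  have o := f.orth.2
  have q := fun i => rs.qW (f.orth.1 i)
  obtain ⟨hW, hsq, p0, p1, p2, p3⟩ := four_mem h2 (f.mem 0).1 (f.mem 1).1 (f.mem 2).1 (f.mem 3).1
    (o _ _ (by decide)) (o _ _ (by decide)) (o _ _ (by decide)) (o _ _ (by decide))
    (o _ _ (by decide)) (o _ _ (by decide))
  simp only [q, mul_one, one_smul] at hsq
  generalize x 0 * x 1 * x 2 * x 3 = ω at hW hsq p0 p1 p2 p3
  have p : ∀ i, bW (x i) ω = 0 := fun i => by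
    fin_cases i
    exacts [p0, p1, p2, p3]
  have p' := fun i => (bW_comm ω _).trans (p i)
  have qω := qW_eq_one h2 hsq
  refine pm_false h c hS f (ω := ω) (fun e => ?_) (fun g hg => ?_) fun i =>
    anti_of_perp h2 hW (f.mem i).1 (p' i)
  · rw [e] at hsq; simp at hsq
  have hp : ∀ i, bW (cg g ω) (x i) = 0 := fun i => by
    obtain ⟨j, hj⟩ := f.act c hS.le (inv_mem hg) i
    rw [bW_cg]
    rcases hj with hj | hj <;> simp [hj, bW_neg_right, p']
  have e := expand h2 (ι := Fin 5) rfl (x := ![x 0, x 1, x 2, x 3, ω]) ?_ ?_ ?_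
    (v := cg g ω) (conj_mem_W (h.le_sp (hS.le hg)) hW)
  · simp only [Fin.sum_univ_five] at e
    simp [hp, qω] at e
    have e2 : qW (cg g ω) = 1 := (qW_conj g ω).trans qω
    rw [e, qW_smul, qω, mul_one] at e2
    rcases sq_eq_one_iff.1 e2 with k | k <;> rw [k] at e
    · exact .inl (by rw [e, one_smul])
    · exact .inr (by rw [e, neg_one_smul])
  · intro i; fin_cases i <;> simp [(f.mem _).1, hW]
  · intro i; fin_cases i <;> simp [q, qω]
  · intro i j hij
    fin_cases i <;> fin_cases j <;> simp [o, p, p'] at hij ⊢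

theorem not_five (h : Res H P) (c : Cls P D) {x : Fin 5 → M4 F} (hx : Orth D x) : False := by
  have h2 := h.two
  have rs := c.tame.toRS
  have hne : D.Nonempty := ⟨_, hx.1 0⟩
  obtain ⟨h3, hb, hall⟩ := c.tame.frame c.nosq (h.conn c.sub hne c.inv) hx
  let K : Subfield F :=
    { carrier := {a | a ^ 3 = a}
      mul_mem' := fun {a b} ha hb => by
        rw [Set.mem_ofPred_eq] at ha hb ⊢
        rw [mul_pow, ha, hb]
      one_mem' := one_pow 3
      add_mem' := fun {a b} ha hb => by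
        rw [Set.mem_ofPred_eq] at ha hb ⊢
        linear_combination ha + hb + (a ^ 2 * b + a * b ^ 2) * h3
      zero_mem' := zero_pow three_ne_zero
      neg_mem' := fun {a} ha => by
        rw [Set.mem_ofPred_eq] at ha ⊢
        linear_combination -ha
      inv_mem' := fun a ha => by
        rw [Set.mem_ofPred_eq] at ha ⊢
        rw [inv_pow, ha] }
  have hK : ∀ y ∈ D, ∀ i, bW y (x i) ∈ K := fun y hy i => by
    rcases hb y hy i with e | e | e <;> rw [e]
    exacts [K.zero_mem, K.one_mem, K.neg_mem K.one_mem]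
  have htop : K = ⊤ := h.trace_top fun g hg => by
    refine trace_comm h2 (β := 1) one_ne_zero (L := D) rs.mem (fun v hv w hw => ?_) (D := D)
      (fun y hy => ⟨rs.sq y hy, 1, one_ne_zero, by rwa [one_smul]⟩) ?_
    · have e := hx.parseval rs (rs.mem v hv) w
      rw [div_one, show bW v w = -∑ i, bW v (x i) * bW w (x i) by
        linear_combination -e + bW v w * h3]
      exact K.neg_mem (K.sum_mem fun i _ => K.mul_mem (hK v hv i) (hK w hw i))
    · rwa [h.grp_eq c.sub hne c.inv, h.core.perfect]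
  refine h.not_sp_le (sp_le_of_frame3 h.std (fun a => ?_) (x := x)
    ⟨fun i => c.sub (hx.1 i), hx.2⟩ fun i ε h0 h1 => c.sub (hall i ε h0 h1))
  have ha : a ^ 3 = a := (htop ▸ Subfield.mem_top a : a ∈ K)
  have : a * (a - 1) * (a + 1) = 0 := by linear_combination ha
  rcases mul_eq_zero.1 this with e | e
  · exact (mul_eq_zero.1 e).imp_right fun e => .inl (sub_eq_zero.1 e)
  · exact .inr (.inr (add_eq_zero_iff_eq_neg.1 e))

theorem exists_three (h : Res H P) (c : Cls P D) (hne : D.Nonempty) (hS : SylIn 2 S P) :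
    ∃ x : Fin 3 → M4 F, Fm S D x := by
  obtain ⟨d, hd, x, f⟩ := c.exists_fm hS.pgroup
  interval_cases d
  · obtain ⟨y, hy⟩ := hne
    obtain ⟨S', hS', hy'⟩ := exists_syl (P := P) h.two (x := ![y])
      ⟨fun i => by fin_cases i; exact c.sub hy, fun i j hij => (hij (Subsingleton.elim _ _)).elim⟩
    obtain ⟨g, hg, hg'⟩ := hS.exists_conj hS'.le hS'.pgroup
    obtain ⟨u, hu, eu⟩ := (hy' 0).2.2
    obtain ⟨i, -⟩ := f.all _ (c.inv g hg y hy) ⟨_, hg' u hu, by simp [cg, eu]⟩
    exact i.elim0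
  · exact (not_one h c hS f).elim
  · exact (not_two h c hS f).elim
  · exact ⟨x, f⟩
  · exact (not_four h c hS f).elim
  · exact (not_five h c f.orth).elim

omit [Finite F] in
theorem eq_of_pm (rs : RS D) {n : ℕ} {z : Fin n → M4 F} (hz : Orth D z) {a : M4 F} {i j : Fin n}
    (hi : z i = a ∨ z i = -a) (hj : z j = a ∨ z j = -a) : i = j := by
  by_contra hij
  have h1 := hz.2 i j hij
  have h2 := rs.bW_self (hz.1 i)
  have := rs.two
  rcases hi with hi | hi <;> rcases hj with hj | hj <;>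
    simp only [hi, hj, bW_neg_left, bW_neg_right, neg_neg, neg_eq_zero] at h1 h2 <;>
    exact this (h2.symm.trans h1)

theorem no_four (h : Res H P) (c : Cls P D) {z : Fin 4 → M4 F} (hz : Orth D z) : False := by
  obtain ⟨S, hS, hz'⟩ := exists_syl (P := P) h.two (x := z) ⟨fun i => c.sub (hz.1 i), hz.2⟩
  obtain ⟨x, f⟩ := exists_three h c ⟨_, hz.1 0⟩ hS
  choose k hk using fun i => f.all _ (hz.1 i) (hz' i).2.2
  obtain ⟨i, j, hij, e⟩ := Fintype.exists_ne_map_eq_of_card_lt k (by simp)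
  exact hij (eq_of_pm c.tame.toRS hz (hk i) (e ▸ hk j))

end Cfsg.Agent.DIM4.Th
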