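import Cfsg.Agent.DIM4.Irr
import Cfsg.Agent.DIM4.Frame
import Cfsg.Agent.DIM4.Three
import Cfsg.Agent.DIM4.UTrace
import Cfsg.Agent.DIM4.UFull
import Cfsg.Agent.DIM4.SylB

/-! The perfect core of a residual maximal subgroup has no tame set of roots. -/

set_option autoImplicit false

namespace Cfsg.Agent.DIM4

open Matrix Subgroup H92

variable {F : Type*} [Field F] [Finite F] {H P : Subgroup (G4 F)}

namespace Th

variable {S : Subgroup (G4 F)} {D D' : Set (M4 F)}

omit [Finite F] in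
theorem InG.om {x : Fin 3 → M4 F} (hx : ∀ i, x i ∈ Rt S) : InG S (om x) :=
  ((hx 0).2.2.mul (hx 1).2.2).mul (hx 2).2.2

omit [Finite F] in
theorem Cls.sandwich (c : Cls P D) {a y : M4 F} (ha : a ∈ Rt P) (hy : y ∈ D) : a * y * a ∈ D := by
  obtain ⟨g, hg, rfl⟩ := ha.2.2
  have := c.inv g hg y hy
  rwa [cg, Units.inv_eq_of_mul_eq_one_right ha.2.1] at this

theorem two_classes (h : Res H P) (c : Cls P D) (c' : Cls P D') (hne : D.Nonempty)
    (hne' : D'.Nonempty) (hall : ∀ z ∈ Rt P, z ∈ D ∨ z ∈ D')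
    (hb : ∀ x ∈ D, ∀ y ∈ D', bW x y ≠ 0 → bW x y ^ 2 = 2) : False := by
  have h2 := h.two
  obtain ⟨S, hS⟩ := exists_sylIn 2 P
  obtain ⟨x, f⟩ := exists_three h c hne hS
  obtain ⟨y, f'⟩ := exists_three h c' hne' hS
  have rs := h.std.rs
  have fr := fr_of_orth c.tame.toRS f.orth
  have A : ∀ w ∈ D', InG S w → ∀ i, bW (x i) w ≠ 0 →
      ∃ j, j ≠ i ∧ ∃ ε : F, ε ≠ 0 ∧ bW (x i) w • w = x i + ε • x j := by
    intro w hw hwS i hi
    have hwP := c'.sub hw
    obtain ⟨j, hj⟩ := f.all _ (c.sandwich hwP (f.orth.1 i)) ((hwS.mul (f.mem i).2.2).mul hwS)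
    rw [DIM4.sandwich h2 hwP.1 (fr.mem i), rs.qW hwP, one_smul] at hj
    obtain ⟨ε, hε, e⟩ : ∃ ε : F, (ε = 1 ∨ ε = -1) ∧ bW (x i) w • w = x i + ε • x j := by
      rcases hj with hj | hj
      · exact ⟨1, .inl rfl, by rw [one_smul, ← hj]; abel⟩
      · exact ⟨-1, .inr rfl, by rw [neg_one_smul, ← hj]; abel⟩
    refine ⟨j, ?_, ε, by rcases hε with rfl | rfl <;> simp, e⟩
    rintro rfl
    have e1 := congrArg (bW (x j)) e
    have e2 := hb _ (f.orth.1 j) w hw hi
    rw [bW_smul_right, bW_add_right, bW_smul_right, fr.bW_diag] at e1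
    rcases hε with rfl | rfl
    · exact h2 (by linear_combination e2 - e1)
    · exact h2 (by linear_combination e1 - e2)
  by_cases hp : ∀ k i, bW (x i) (y k) = 0
  · have := orth_le (D := Rt P) h2 (fun z hz => ⟨hz.1, hz.2.1⟩) (x := Sum.elim x y)
      (by rintro (i | i); exacts [c.sub (f.orth.1 i), c'.sub (f'.orth.1 i)]) (by
        rintro (i | i) (j | j) hij
        · exact f.orth.2 i j fun e => hij (by rw [e])
        · exact hp j i
        · exact (bW_comm _ _).trans (hp i j)
        · exact f'.orth.2 i j fun e => hij (by rw [e]))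
    simp at this
  push Not at hp
  obtain ⟨k, i, hi⟩ := hp
  have hw := f'.orth.1 k
  obtain ⟨j, hj, ε, hε, e⟩ := A _ hw (f'.mem k).2.2 i hi
  have hw' := c'.sandwich (c.sub (f.orth.1 i)) hw
  obtain ⟨k', hk'⟩ := f'.all _ hw' (((f.mem i).2.2.mul (f'.mem k).2.2).mul (f.mem i).2.2)
  rw [DIM4.sandwich h2 (fr.mem i) (f'.mem k).1, fr.qW_eq, one_smul, bW_comm] at hw' hk'
  have b2 := hb _ (f.orth.1 i) _ hw hi
  have ww' : bW (y k) (bW (x i) (y k) • x i - y k) = 0 := by
    rw [bW_sub_right, bW_smul_right, bW_comm (y k), rs.bW_self (c'.sub hw)]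
    linear_combination b2
  obtain ⟨l, hl, hl'⟩ := (by decide : ∀ k k' : Fin 3, ∃ l, l ≠ k ∧ l ≠ k') k k'
  have l1 : bW (y l) (y k) = 0 := f'.orth.2 l k hl
  have l2 : bW (y l) (bW (x i) (y k) • x i - y k) = 0 := by
    rcases hk' with e' | e' <;> simp [e', bW_neg_right, f'.orth.2 l k' hl']
  have li : bW (y l) (x i) = 0 := by
    rw [bW_sub_right, bW_smul_right, l1, sub_zero] at l2
    exact (mul_eq_zero.1 l2).resolve_left hi
  have lj : bW (y l) (x j) = 0 := by
    have := congrArg (bW (y l)) e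
    rw [bW_smul_right, bW_add_right, bW_smul_right, l1, li, mul_zero, zero_add] at this
    exact (mul_eq_zero.1 this.symm).resolve_left hε
  have lm : ∀ m, bW (y l) (x m) = 0 := by
    intro m
    by_contra hm
    obtain ⟨n, hn, δ, hδ, e'⟩ := A _ (f'.orth.1 l) (f'.mem l).2.2 m (by rwa [bW_comm])
    have hn' : bW (y l) (x n) = 0 := by
      have : ∀ i j m n : Fin 3, j ≠ i → n ≠ m → m = i ∨ m = j ∨ n = i ∨ n = j := by decide
      rcases this i j m n hj hn with rfl | rfl | rfl | rfl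
      exacts [(hm li).elim, (hm lj).elim, li, lj]
    have := congrArg (bW · (x n)) e'
    simp only [bW_smul_left, bW_add_left, hn', fr.bW_diag, fr.perp m n hn.symm] at this
    exact mul_ne_zero hδ h2 (by linear_combination -this)
  obtain ⟨o1, o2, o3, o4⟩ := fr.om_mul (f'.mem l).1 lm
  have hω : om x * y l ∈ Rt P := ⟨o1, by rw [mul_self h2 o1, o2, rs.qW (c'.sub (f'.orth.1 l)),
    one_smul], ((InG.om f.mem).mul (f'.mem l).2.2).mono hS.le⟩
  rcases hall _ hω with hω | hω
  · exact no_four h c (orth_cons f.orth hω o3)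
  have o5 : bW (om x * y l) (y k) = 0 := by
    have := congrArg (bW (om x * y l)) e
    rw [bW_smul_right, bW_add_right, bW_smul_right, o3, o3, mul_zero, add_zero] at this
    exact (mul_eq_zero.1 this).resolve_left hi
  have o6 : bW (om x * y l) (bW (x i) (y k) • x i - y k) = 0 := by
    rw [bW_sub_right, bW_smul_right, o3, o5, mul_zero, sub_zero]
  refine no_four h c' (orth_cons (orth_cons (orth_cons (orth_cons (n := 0) (x := Fin.elim0)
    ⟨fun i => i.elim0, fun i => i.elim0⟩ hw' fun i => i.elim0) hw ?_) (f'.orth.1 l) ?_) hω ?_)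
  · intro i; fin_cases i; exact ww'
  · intro i; fin_cases i; exacts [l1, l2]
  · intro i; fin_cases i; exacts [(bW_comm _ _).trans o4, o5, o6]

/-- The elements of `S` commuting with a frame of three roots. -/
theorem cent_frame (h : Res H P) (c : Cls P D) (hS : SylIn 2 S P) {x : Fin 3 → M4 F}
    (hx : Orth D x) {k : M4 F} (hk : InG S k) (hc : ∀ i, k * x i = x i * k) :
    k = 1 ∨ k = -1 ∨ k = om x ∨ k = -om x := by
  have h2 := h.two
  have fr := fr_of_orth c.tame.toRS hx
  have st := std_syl h.std hS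
  have ind : ∀ {a b a' b' : F}, a • (1 : M4 F) + b • om x = a' • 1 + b' • om x → a = a' ∧ b = b' := by
    intro a b a' b' e
    have e' := congrArg adj e
    simp only [adj_add, adj_smul, adj_one, fr.adj_om] at e'
    have e1 : (2 * (a - a')) • (1 : M4 F) = 0 := by linear_combination (norm := module) e + e'
    have e2 : (2 * (b - b')) • om x = 0 := by linear_combination (norm := module) e - e'
    have o : om x ≠ 0 := fun o => by simpa [o] using fr.om_sq
    exact ⟨sub_eq_zero.1 ((mul_eq_zero.1 ((smul_eq_zero.1 e1).resolve_right one_ne_zero)).resolve_left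
      h2), sub_eq_zero.1 ((mul_eq_zero.1 ((smul_eq_zero.1 e2).resolve_right o)).resolve_left h2)⟩
  have mul : ∀ a b a' b' : F, (a • (1 : M4 F) + b • om x) * (a' • 1 + b' • om x) =
      (a * a' - b * b') • 1 + (a * b' + b * a') • om x := fun a b a' b' => by
    simp only [Matrix.add_mul, Matrix.mul_add, Matrix.smul_mul, Matrix.mul_smul, Matrix.one_mul,
      Matrix.mul_one, fr.om_sq]
    module
  have quarter : ∀ a : F, 2 * a ^ 2 = 1 → ¬ InG S (a • (1 : M4 F) + a • om x) := by
    rintro a ha ⟨g, hg, eg⟩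
    refine c.tame.three_false c.nosq (h.conn c.sub ⟨_, hx.1 0⟩ c.inv) hx (fun y hy => ?_)
      fun y hy => ?_
    · by_contra hn
      push Not at hn
      exact no_four h c (orth_cons hx hy hn)
    · have := c.inv g (hS.le hg) y hy
      rw [cg, ← adj_coe (st.le hg), eg, adj_add, adj_smul, adj_smul, adj_one, fr.adj_om,
        ← smul_add, ← smul_add, Matrix.smul_mul, Matrix.smul_mul, Matrix.mul_smul, smul_smul,
        ← sub_eq_add_neg, show a * a = (2 : F)⁻¹ by field_simp; linear_combination ha] at this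
      exact this
  obtain ⟨n, hn⟩ := InG.pow_two_pow hS.pgroup hk
  induction n generalizing k with
  | zero => exact .inl (by simpa using hn)
  | succ n ih =>
    have := ih (hk.mul hk) (fun i => Commute.mul_left (hc i) (hc i))
      (by rw [← sq, ← pow_mul, ← pow_succ', hn])
    obtain ⟨a, b, rfl⟩ := fr.commutant hc
    have ha := st.adj_mul hk
    have hadj : adj (a • (1 : M4 F) + b • om x) = a • 1 + (-b) • om x := by
      rw [adj_add, adj_smul, adj_smul, adj_one, fr.adj_om, smul_neg, neg_smul]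
    have hk' : InG S (a • (1 : M4 F) + (-b) • om x) :=
      hadj ▸ hk.of_mul_eq_one (mul_eq_one_comm.1 ha)
    rw [hadj, mul] at ha
    have n1 := (ind (a' := 1) (b' := 0) (by rw [ha]; simp)).1
    rw [mul] at this
    have sq : ∀ ε : F, ε ^ 2 = 1 → (a * a - b * b) • (1 : M4 F) + (a * b + b * a) • om x =
        ε • om x → False := fun ε hε e => by
      have e1 := (ind (a' := 0) (b' := ε) (by rw [e]; simp)).1
      have e2 : 2 * a ^ 2 = 1 := by linear_combination n1 + e1
      rcases mul_self_eq_mul_self_iff.1 (sub_eq_zero.1 e1) with rfl | e3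
      · exact quarter a e2 hk
      · exact quarter a e2 (by rwa [← e3] at hk')
    rcases this with e | e | e | e
    · have e1 := (ind (a' := 1) (b' := 0) (by rw [e]; simp)).1
      have hb : b = 0 := mul_self_eq_zero.1 ((mul_eq_zero.1 (show 2 * (b * b) = 0 by
        linear_combination n1 - e1)).resolve_left h2)
      rcases mul_self_eq_one_iff.1 (show a * a = 1 by rw [hb] at e1; linear_combination e1) with
        rfl | rfl <;> simp [hb]
    · have e1 := (ind (a' := -1) (b' := 0) (by rw [e]; simp)).1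
      have hb : a = 0 := mul_self_eq_zero.1 ((mul_eq_zero.1 (show 2 * (a * a) = 0 by
        linear_combination n1 + e1)).resolve_left h2)
      rcases mul_self_eq_one_iff.1 (show b * b = 1 by rw [hb] at e1; linear_combination -e1) with
        rfl | rfl <;> simp [hb]
    · exact (sq 1 (by ring) (by rw [e, one_smul])).elim
    · exact (sq (-1) (by ring) (by rw [e, neg_one_smul])).elim

theorem perm3 : ∀ σ τ : Equiv.Perm (Fin 3), σ ^ 2 = 1 → τ ^ 2 = 1 → (σ⁻¹ * τ) ^ 2 = 1 →
    σ = 1 ∨ τ = 1 ∨ σ⁻¹ * τ = 1 := by decide +kernel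

theorem one_class (h : Res H P) (c : Cls P (Rt P)) (hne : (Rt P).Nonempty) : False := by
  have h2 := h.two
  obtain ⟨S, hS⟩ := exists_sylIn 2 P
  obtain ⟨x, f⟩ := exists_three h c hne hS
  have fr := fr_of_orth c.tame.toRS f.orth
  have st := std_syl h.std hS
  let T : Set (M4 F) := {v | v ∈ Wsp F ∧ ∀ i, bW v (x i) = 0}
  have xT : ∀ i, ∀ w ∈ T, x i * w = -(w * x i) := fun i w hw =>
    anti_of_perp h2 hw.1 (fr.mem i) (hw.2 i)
  have plus : ∀ g ∈ S, (∀ i, cg g (x i) = x i) → Sc T g := fun g hg e => by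
    rcases cent_frame h c hS f.orth (InG.of_mem hg) (fun i => cg_eq_iff.1 (e i)) with k | k | k | k
    · exact .inl fun w _ => by rw [cg_eq_iff, k]; simp
    · exact .inl fun w _ => by rw [cg_eq_iff, k]; simp
    · exact .inr fun w hw => cg_eq_neg (.inl k) (by rw [fr.om_anti hw.1 hw.2, neg_neg])
    · exact .inr fun w hw => cg_eq_neg (.inr k) (by rw [fr.om_anti hw.1 hw.2, neg_neg])
  have minus : ∀ g ∈ S, (∀ i, cg g (x i) = -x i) → Sc T g := fun g hg e => by
    obtain ⟨k1, k2⟩ := fr.anticommutant (M := g) fun i => by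
      rw [cg_eq_iff.1 (e i), Matrix.neg_mul]
    have k3 := st.adj_mul (InG.of_mem hg)
    rw [k1.1] at k3
    exact (no_four h c (orth_cons f.orth ⟨k1, k3, InG.of_mem (hS.le hg)⟩ k2)).elim
  choose u hu eu using fun i => (f.mem i).2.2
  have uu := fun i => unit_sq (eu i) (fr.sq i)
  have uT : ∀ i, Sc T (u i) := fun i => .inr fun w hw => cg_eq_neg (.inl (eu i)) (xT i w hw)
  have u1 : ∀ i, cg (u i) (x i) = x i := fun i => by rw [cg_eq_iff, eu]
  have u2 : ∀ i j, i ≠ j → cg (u i) (x j) = -x j := fun i j hij =>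
    cg_eq_neg (.inl (eu i)) (fr.anti hij.symm)
  have red : ∀ g l, Sc T (g * u l) → Sc T g := fun g l e => by
    have := e.mul (uT l)
    rwa [mul_assoc, uu, mul_one] at this
  have ker : ∀ g ∈ S, (∀ i, cg g (x i) = x i ∨ cg g (x i) = -x i) → Sc T g := fun g hg e => by
    have p := fun l => plus _ (S.mul_mem hg (hu l))
    have m := fun l => minus _ (S.mul_mem hg (hu l))
    rcases e 0 with a | a <;> rcases e 1 with b | b <;> rcases e 2 with d | d
    · exact plus g hg fun i => by fin_cases i; exacts [a, b, d]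
    · exact red g 2 (m 2 fun i => by fin_cases i <;> simp [cg_mul, cg_neg, u1, u2, a, b, d])
    · exact red g 1 (m 1 fun i => by fin_cases i <;> simp [cg_mul, cg_neg, u1, u2, a, b, d])
    · exact red g 0 (p 0 fun i => by fin_cases i <;> simp [cg_mul, cg_neg, u1, u2, a, b, d])
    · exact red g 0 (m 0 fun i => by fin_cases i <;> simp [cg_mul, cg_neg, u1, u2, a, b, d])
    · exact red g 1 (p 1 fun i => by fin_cases i <;> simp [cg_mul, cg_neg, u1, u2, a, b, d])
    · exact red g 2 (p 2 fun i => by fin_cases i <;> simp [cg_mul, cg_neg, u1, u2, a, b, d])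
    · exact minus g hg fun i => by fin_cases i; exacts [a, b, d]
  choose π hπ using fun (g : S) i => f.act c hS.le g.2 i
  have uniq : ∀ {a : M4 F} {i j}, (a = x i ∨ a = -x i) → (a = x j ∨ a = -x j) → i = j :=
    fun hi hj => eq_of_pm c.tame.toRS f.orth (hi.imp Eq.symm fun e => by rw [e, neg_neg])
      (hj.imp Eq.symm fun e => by rw [e, neg_neg])
  let φ : S →* Function.End (Fin 3) :=
    { toFun := π
      map_one' := funext fun i => uniq (hπ 1 i) (.inl (cg_one _))
      map_mul' := fun a b => funext fun i => uniq (hπ (a * b) i) (by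
        change cg (a * b) (x i) = x (π a (π b i)) ∨ cg (a * b) (x i) = -x (π a (π b i))
        rw [coe_mul, cg_mul]
        rcases hπ b i with e | e <;> rcases hπ a (π b i) with e' | e' <;> simp [e, e', cg_neg]) }
  obtain ⟨ψ, hψ⟩ : ∃ ψ : S →* Equiv.Perm (Fin 3), ∀ a i, ψ a i = π a i :=
    ⟨φ.toHomPerm, fun _ _ => rfl⟩
  have sq : ∀ a : S, ψ a ^ 2 = 1 := fun a => by
    obtain ⟨n, hn⟩ := hS.pgroup a
    have e : ψ a ^ 2 ^ n = 1 := by rw [← map_pow, hn, map_one]
    have : ∀ σ : Equiv.Perm (Fin 3), σ ^ 2 = 1 ∨ σ ^ 3 = 1 := by decide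
    refine (this _).elim id fun e3 => ?_
    have := pow_gcd_eq_one.2 ⟨e3, e⟩
    rw [Nat.Coprime.pow_right n (by decide : Nat.Coprime 3 2), pow_one] at this
    rw [this, one_pow]
  have triv : ∀ a : S, ψ a = 1 → Sc T a := fun a e => ker a a.2 fun i => by
    have : π a i = i := by rw [← hψ, e]; rfl
    simpa only [this] using hπ a i
  obtain ⟨v, hv, hp, hq⟩ := fr.exists_perp
  refine sign_false (T := T) h2 h.core.perfect hS ⟨hv, hp⟩ (fun e => hq (by simp [e, qW]))
    (fun g hg w hw => ⟨conj_mem_W (st.le hg) hw.1, fun i => ?_⟩) (fun a ha b hb => ?_) (hu 0) (uu 0)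
    fun g hg hg' w hw => ?_
  · obtain ⟨j, hj⟩ := f.act c hS.le (inv_mem hg) i
    rw [bW_cg]
    rcases hj with hj | hj <;> simp [hj, bW_neg_right, hw.2]
  · have e := perm3 _ _ (sq ⟨a, ha⟩) (sq ⟨b, hb⟩) (by rw [← map_inv, ← map_mul]; exact sq _)
    rw [← map_inv, ← map_mul] at e
    refine e.imp (triv ⟨a, ha⟩) (Or.imp (triv ⟨b, hb⟩) fun e => ?_)
    simpa only [Subgroup.coe_mul, Subgroup.coe_inv] using triv _ e
  · obtain ⟨j, hj⟩ := f.conj c (eu 0) hg hg'
    exact cg_eq_neg hj (xT j w hw)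

end Th

open Th in
theorem Res.no_tame (h : Res H P) (ht : Tame (Rt P)) : Rt P = ∅ := by
  by_contra hne
  replace hne : (Rt P).Nonempty := Set.nonempty_iff_ne_empty.2 hne
  obtain ⟨χ, hχ⟩ := ht.colour
  have st := h.std
  have cP : ∀ g ∈ P, ∀ x ∈ Rt P, cg g x ∈ Rt P := fun g hg x hx => st.conj_mem hg hx
  have inv : ∀ g ∈ P, ∀ x ∈ Rt P, χ (cg g x) = χ x := by
    let M : Subgroup (G4 F) :=
      { carrier := {g | g ∈ P ∧ ∀ x ∈ Rt P, χ (cg g x) = χ x}
        one_mem' := ⟨P.one_mem, fun x _ => by rw [cg_one]⟩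
        mul_mem' := fun {a b} ha hb => ⟨P.mul_mem ha.1 hb.1, fun x hx => by
          rw [cg_mul, ha.2 _ (cP b hb.1 x hx), hb.2 x hx]⟩
        inv_mem' := fun {a} ha => ⟨P.inv_mem ha.1, fun x hx => by
          rw [← ha.2 _ (cP _ (P.inv_mem ha.1) x hx), cg_cg_inv]⟩ }
    have : grp (Rt P) ≤ M := (closure_le _).2 fun g hg => ⟨by
      obtain ⟨k, hk, e⟩ := hg.2.2
      rwa [← Units.ext e], fun x hx => by
      rw [cg, Units.inv_eq_of_mul_eq_one_right hg.2.1]
      exact (ht.colour_refl hχ hg hx).2.2⟩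
    rw [h.grp_eq le_rfl hne cP] at this
    exact fun g hg => (this hg).2
  have cls : ∀ t, Cls P {x | x ∈ Rt P ∧ χ x = t} := fun t =>
    ⟨fun _ hx => hx.1, (ht.cls hχ t).1, (ht.cls hχ t).2, fun g hg x hx =>
      ⟨cP g hg x hx.1, (inv g hg x hx.1).trans hx.2⟩⟩
  have one : ∀ t, ¬ {x | x ∈ Rt P ∧ χ x = !t}.Nonempty → False := fun t hn => by
    refine one_class h ?_ hne
    have : {x | x ∈ Rt P ∧ χ x = t} = Rt P := Set.ext fun x => and_iff_left_of_imp fun hx => by
      by_contra e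
      exact hn ⟨x, hx, Bool.eq_not_iff.2 e⟩
    exact this ▸ cls t
  refine two_classes h (cls true) (cls false) (by_contra (one false)) (by_contra (one true))
    (fun z hz => ?_) fun x hx y hy hb => ?_
  · cases e : χ z
    exacts [.inr ⟨hz, e⟩, .inl ⟨hz, e⟩]
  · by_contra e
    have := (hχ x hx.1 y hy.1 hb).2 e
    rw [hx.2, hy.2] at this
    exact Bool.noConfusion this

end Cfsg.Agent.DIM4
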