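import Cfsg.Agent.DIM4.UForm
import Cfsg.Agent.DIM4.Triple
import Cfsg.Agent.DIM4.Syl

/-! The residual class of `Sp₄(q)`, `q` odd: `-1` is the only involution. -/

set_option autoImplicit false

namespace Cfsg.Agent.DIM4

open Matrix

variable {F : Type*} [Field F] [Finite F] {H P : Subgroup (G4 F)}

theorem Res.rt_empty (h : Res H P) : Rt P = ∅ := by
  by_contra hne
  have hne : (Rt P).Nonempty := Set.nonempty_iff_ne_empty.2 hne
  have S := h.std
  have hi := fun g hg x hx => S.conj_mem (g := g) hg (x := x) hx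
  have hc := h.conn le_rfl hne hi
  by_cases hu : UStar P
  · obtain ⟨s, y, e, μ, μ0, μ1, μ2, m1, m2⟩ := hu
    obtain ⟨K, β, L, -, -, hβ, hW, hb, hx, hK⟩ := uform S hc hne e μ0 μ1 μ2 m1 m2
    have : K = ⊤ := h.trace_top fun g hg => trace_comm h.two hβ (L := L) hW hb (D := Rt P)
      (fun x hx' => ⟨hx'.2.1, hx x hx'⟩) (by rwa [h.grp_eq le_rfl hne hi, h.core.perfect])
    obtain ⟨x, hx, hb⟩ := hc.exists_ne h.two hne e.sW e.ne
    exact h.not_sp_le (sp_le_of_eich S e.sW e.sq hx hb (hK this))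
  · exact hne.ne_empty (h.no_tame (tame S hu hc))

theorem Res.oneInv (h : Res H P) : OneInv P := by
  refine ⟨h.std.neg, fun g hg h2 => ?_⟩
  by_contra! hn
  exact (h.rt_empty ▸ h.std.mem_Rt hg h2 hn.1 hn.2 : (g : M4 F) ∈ (∅ : Set (M4 F)))

end Cfsg.Agent.DIM4
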