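import Cfsg.Agent.DIM4.Irr
import Cfsg.Agent.H22.QuatPerfect
import Cfsg.Agent.H22.GWSimple
import Cfsg.Agent.H66.SL2Order
import Cfsg.Agent.H28.SL2Prime

/-! The residual class with one involution: Gorenstein-Walter, lifts of root elements. -/

set_option autoImplicit false

namespace Cfsg.Agent.DIM4

open Matrix
open scoped MatrixGroups

variable {F : Type*} [Field F] [Finite F] {H P : Subgroup (G4 F)}

omit [Finite F] in
theorem neg_one_ne_one4 (h2 : (2 : F) ≠ 0) : (-1 : G4 F) ≠ 1 := fun e => by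
  have := congrArg (fun g : G4 F => (g : M4 F) (.inl 0) (.inl 0)) e
  simp only [Units.val_neg, Units.val_one, Matrix.neg_apply, one_apply_eq] at this
  exact h2 (by linear_combination -this)

theorem Res.cases (h : Res H P) (ho : OneInv P) :
    (∃ (K : Type) (_ : Field K) (_ : Fintype K), Odd (Fintype.card K) ∧ 3 < Fintype.card K ∧
      Nonempty (P ⧸ ZP P ≃* Matrix.ProjectiveSpecialLinearGroup (Fin 2) K)) ∨
    Nonempty (P ⧸ ZP P ≃* alternatingGroup (Fin 7)) := by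
  have hP : Group.IsPerfect P := Subgroup.isPerfect_iff.2 h.core.perfect
  let z : P := ⟨-1, ho.neg⟩
  have z1 : z ≠ 1 := fun e => neg_one_ne_one4 h.two (congrArg Subtype.val e)
  have zz : z ^ 2 = 1 := Subtype.ext (by simp [z])
  have oz : orderOf z = 2 := orderOf_eq_prime zz z1
  have uq : ∀ x : P, orderOf x = 2 → x = z := fun x hx => by
    have x2 : x * x = 1 := by simpa only [hx, sq] using pow_orderOf_eq_one x
    rcases ho.uniq x x.2 (congrArg Subtype.val x2) with e | e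
    · rw [show x = 1 from Subtype.ext e] at hx; simp at hx
    · exact Subtype.ext e
  have ev : Even (Nat.card P) := even_iff_two_dvd.2 (by simpa only [oz] using orderOf_dvd_natCard z)
  obtain ⟨S, hS⟩ := (IsPGroup.of_card (p := 2) (n := 1) (G := Subgroup.zpowers z)
    (by rw [Nat.card_zpowers, oz, pow_one])).exists_le_sylow
  obtain ⟨n, ⟨e⟩⟩ := (H1.cyclic_or_quaternion S.isPGroup' fun x y hx hy => Subtype.ext
    ((uq x (by rwa [Subgroup.orderOf_coe])).trans (uq y (by rwa [Subgroup.orderOf_coe])).symm)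
    ).resolve_left (H22.not_isCyclic_sylow_two hP ev S)
  have hk : (QuotientGroup.mk' (ZP P)).ker ⊓ S = Subgroup.zpowers z := by
    refine le_antisymm (fun x hx => ?_) (le_inf ?_ hS)
    · rcases h.mem_ZP.1 (QuotientGroup.ker_mk' (ZP P) ▸ hx.1) with e | e
      · rw [show x = 1 from Subtype.ext e]; exact one_mem _
      · rw [show x = z from Subtype.ext e]; exact Subgroup.mem_zpowers _
    · rw [QuotientGroup.ker_mk', Subgroup.zpowers_le]; exact h.mem_ZP.2 (Or.inr rfl)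
  obtain ⟨d⟩ := H22.dihedral_map_of_quaternion e (QuotientGroup.mk' (ZP P))
    (by rw [hk, Nat.card_zpowers, oz])
  exact (H22.gw_simple h.core.simple h.core.nonabelian
    (S.mapSurjective (QuotientGroup.mk'_surjective (ZP P))) d).2

/-- `g ∈ P` lifts the class of `s`. -/
def Lifts {K : Type} [Field K] (e : P ⧸ ZP P ≃* ProjectiveSpecialLinearGroup (Fin 2) K)
    (g : G4 F) (s : SL(2, K)) : Prop :=
  ∃ hg : g ∈ P, e (QuotientGroup.mk ⟨g, hg⟩) = H66.toPSL K s

section Lifts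

variable {K : Type} [Field K] {e : P ⧸ ZP P ≃* ProjectiveSpecialLinearGroup (Fin 2) K}
  {g g' : G4 F} {s s' : SL(2, K)}

omit [Finite F]

theorem Lifts.one : Lifts e 1 1 := ⟨P.one_mem, by rw [map_one]; exact map_one e⟩

theorem Lifts.mul (a : Lifts e g s) (b : Lifts e g' s') : Lifts e (g * g') (s * s') := by
  obtain ⟨hg, a⟩ := a
  obtain ⟨hg', b⟩ := b
  exact ⟨P.mul_mem hg hg', by rw [map_mul, ← a, ← b, ← map_mul]; rfl⟩

theorem Lifts.inv (a : Lifts e g s) : Lifts e g⁻¹ s⁻¹ := by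
  obtain ⟨hg, a⟩ := a
  exact ⟨P.inv_mem hg, by rw [map_inv, ← a, ← map_inv]; rfl⟩

theorem Lifts.pow (a : Lifts e g s) (n : ℕ) : Lifts e (g ^ n) (s ^ n) := by
  induction n with
  | zero => simpa using Lifts.one
  | succ n ih => rw [pow_succ, pow_succ]; exact ih.mul a

theorem exists_lifts (s : SL(2, K)) : ∃ g, Lifts e g s := by
  obtain ⟨x, hx⟩ := QuotientGroup.mk_surjective (e.symm (H66.toPSL K s))
  exact ⟨x, x.2, by rw [hx, e.apply_symm_apply]⟩

theorem exists_lifts' (hg : g ∈ P) : ∃ s, Lifts e g s := by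
  obtain ⟨s, hs⟩ := H66.toPSL_surjective (e (QuotientGroup.mk ⟨g, hg⟩))
  exact ⟨s, hg, hs.symm⟩

theorem Lifts.iff (h : Res H P) (a : Lifts e g s) : g = 1 ∨ g = -1 ↔ s = 1 ∨ s = -1 := by
  obtain ⟨hg, a⟩ := a
  rw [← H66.toPSL_eq_one_iff, ← a, EmbeddingLike.map_eq_one_iff, QuotientGroup.eq_one_iff,
    h.mem_ZP]

theorem Lifts.pm (h : Res H P) (a : Lifts e g s) (b : Lifts e g' s) : g = g' ∨ g = -g' := by
  have := ((a.mul b.inv).iff h).2 (Or.inl (mul_inv_cancel s))
  rwa [mul_inv_eq_one, mul_inv_eq_iff_eq_mul, neg_one_mul] at this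

theorem Lifts.neg (h : Res H P) (hn : (-1 : G4 F) ∈ P) (a : Lifts e g s) : Lifts e (-g) s := by
  have : Lifts e (-1) 1 := ⟨hn, by
    rw [map_one, EmbeddingLike.map_eq_one_iff, QuotientGroup.eq_one_iff, h.mem_ZP]; simp⟩
  simpa using this.mul a

theorem Lifts.uniq (h : Res H P) {l : ℕ} (hl : Odd l) (a : Lifts e g s) (b : Lifts e g' s)
    (h1 : g ^ l = 1) (h2 : g' ^ l = 1) : g = g' :=
  (a.pm h b).resolve_right fun k => neg_one_ne_one4 h.two (by rwa [k, hl.neg_pow, h2] at h1)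

theorem exists_lifts_odd (h : Res H P) (hn : (-1 : G4 F) ∈ P) {l : ℕ} (hl : Odd l)
    (hs : s ^ l = 1) : ∃ g, Lifts e g s ∧ g ^ l = 1 := by
  obtain ⟨g, a⟩ := exists_lifts (e := e) s
  rcases ((a.pow l).iff h).2 (Or.inl hs) with k | k
  · exact ⟨g, a, k⟩
  · exact ⟨-g, a.neg h hn, by rw [hl.neg_pow, k, neg_neg]⟩

end Lifts

omit [Finite F] in
theorem two_ne_of_odd {K : Type*} [Field K] [Fintype K] (hK : Odd (Fintype.card K)) :
    (2 : K) ≠ 0 := fun h2 => by
  have := FiniteField.even_card_of_char_two (F := K)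
    (CharP.ringChar_of_prime_eq_zero Nat.prime_two h2)
  rw [Nat.odd_iff] at hK; omega

theorem Res.exists_sl2Data (h : Res H P) (ho : OneInv P) {K : Type} [Field K] [Fintype K]
    (hK : Odd (Fintype.card K))
    (e : P ⧸ ZP P ≃* Matrix.ProjectiveSpecialLinearGroup (Fin 2) K) :
    Nonempty (SL2Data P K) := by
  have _ := (inferInstance : Finite F)
  obtain ⟨l, hc⟩ := CharP.exists K
  have hl : Odd l := (CharP.char_is_prime K l).odd_of_ne_two fun k =>
    two_ne_of_odd hK (by subst k; exact CharP.cast_eq_zero K 2)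
  have pV : ∀ a : K, H28.slV a ^ l = 1 := fun a => by
    rw [H28.slV_pow, CharP.cast_eq_zero, zero_mul, H28.slV_zero]
  have pL : ∀ a : K, H28.slL a ^ l = 1 := fun a => by
    rw [H28.slL_pow, CharP.cast_eq_zero, zero_mul, H28.slL_zero]
  choose X X1 X2 using fun a => exists_lifts_odd (e := e) h ho.neg hl (pV a)
  choose Y Y1 Y2 using fun a => exists_lifts_odd (e := e) h ho.neg hl (pL a)
  have cj : ∀ {w x y : G4 F} {w' x' y' : SL(2, K)}, Lifts e w w' → Lifts e x x' → Lifts e y y' →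
      x ^ l = 1 → y ^ l = 1 → w' * x' = y' * w' → w * x = y * w := fun {w x y w' x' y'} a b c d f k =>
    mul_inv_eq_iff_eq_mul.1 (((a.mul b).mul a.inv).uniq h hl (by rwa [k, mul_inv_cancel_right])
      (by rw [conj_pow, d, mul_one, mul_inv_cancel]) f)
  have add : ∀ (X : K → G4 F) (v : K → SL(2, K)), (∀ a, Lifts e (X a) (v a)) → (∀ a, X a ^ l = 1) →
      (∀ a b, v (a + b) = v a * v b) → ∀ a b, X (a + b) = X a * X b := fun X v h1 h2 h3 a b =>
    (h1 _).uniq h hl (h3 a b ▸ (h1 a).mul (h1 b)) (h2 _) (by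
      rw [(show Commute (X a) (X b) from cj (h1 a) (h1 b) (h1 b) (h2 b) (h2 b)
        (by rw [← h3, ← h3, add_comm])).mul_pow, h2, h2, mul_one])
  have W : ∀ t : K, Lifts e (X t * Y (-t⁻¹) * X t) (H28.slV t * H28.slL (-t⁻¹) * H28.slV t) :=
    fun t => ((X1 _).mul (Y1 _)).mul (X1 _)
  have wc : ∀ t : K, t ≠ 0 → ((H28.slV t * H28.slL (-t⁻¹) * H28.slV t : SL(2, K)) :
      Matrix (Fin 2) (Fin 2) K) = !![0, t; -t⁻¹, 0] := fun t ht => by
    simp [H28.slV_coe, H28.slL_coe, ht]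
  have ex : ∀ {a b c d : SL(2, K)}, (a : Matrix (Fin 2) (Fin 2) K) * b = c * d → a * b = c * d :=
    fun k => Subtype.ext k
  refine ⟨⟨X, Y, fun a => (X1 a).1, fun a => (Y1 a).1, add X _ X1 X2 H28.slV_add,
    add Y _ Y1 Y2 H28.slL_add, fun a ha k => ?_, ?_, fun t a ht => ?_, fun t a ht => ?_,
    fun t ht => ?_⟩⟩
  · rcases ((X1 a).iff h).1 (Or.inl k) with k | k <;>
    · have := congrFun (congrFun (congrArg Subtype.val k) 0) 1
      simp [H28.slV_coe, ha] at this
  · have le : Subgroup.closure (Set.range X ∪ Set.range Y) ≤ P := (Subgroup.closure_le _).2 (by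
      rintro _ (⟨a, rfl⟩ | ⟨a, rfl⟩)
      exacts [(X1 a).1, (Y1 a).1])
    refine h.eq_of_map le fun g hg => ?_
    let T : Subgroup SL(2, K) :=
      { carrier := {s | ∃ g ∈ Subgroup.closure (Set.range X ∪ Set.range Y), Lifts e g s}
        one_mem' := ⟨1, one_mem _, Lifts.one⟩
        mul_mem' := fun ⟨a, a1, a2⟩ ⟨b, b1, b2⟩ => ⟨_, mul_mem a1 b1, a2.mul b2⟩
        inv_mem' := fun ⟨a, a1, a2⟩ => ⟨_, inv_mem a1, a2.inv⟩ }
    have hT : T = ⊤ := H28.sl_eq_top_of
      (fun c => ⟨_, Subgroup.subset_closure (Or.inl ⟨c, rfl⟩), X1 c⟩)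
      fun c => ⟨_, Subgroup.subset_closure (Or.inr ⟨c, rfl⟩), Y1 c⟩
    obtain ⟨s, hs⟩ := exists_lifts' (e := e) hg
    obtain ⟨k, k1, k2⟩ : s ∈ T := hT ▸ Subgroup.mem_top s
    exact (hs.pm h k2).imp (fun q => by rwa [q]) fun q => by rwa [q, neg_neg]
  · refine cj (W t) (X1 a) (Y1 _) (X2 _) (Y2 _) (ex ?_)
    rw [wc t ht, H28.slV_coe, H28.slL_coe]
    ext i j; fin_cases i <;> fin_cases j <;> simp <;> field_simp
  · refine cj (W t) (Y1 a) (X1 _) (Y2 _) (X2 _) (ex ?_)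
    rw [wc t ht, H28.slV_coe, H28.slL_coe]
    ext i j; fin_cases i <;> fin_cases j <;> simp <;> field_simp
  · refine ((((W t).mul (W t)).iff h).2 (Or.inr ((ex ?_).trans (neg_one_mul 1)))).resolve_left
      fun k => ?_
    · rw [wc t ht]
      ext i j; fin_cases i <;> fin_cases j <;> simp [ht]
    · rcases ((W t).iff h).1 (ho.uniq _ (W t).1 k) with k | k <;>
      · have := congrFun (congrFun ((wc t ht).symm.trans (congrArg Subtype.val k)) 0) 1
        simp [ht] at this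

theorem Res.pow_cases (h : Res H P) {K : Type} [Field K] [Fintype K]
    (hK : Odd (Fintype.card K)) (l : ℕ) [Fact l.Prime] [CharP K l]
    (e : P ⧸ ZP P ≃* Matrix.ProjectiveSpecialLinearGroup (Fin 2) K) {g : G4 F} (hg : g ∈ P) :
    g ^ (Fintype.card K - 1) = 1 ∨ g ^ (Fintype.card K + 1) = 1 ∨ g ^ l = 1 ∨ g ^ l = -1 := by
  have _ := (inferInstance : Finite F)
  have key : ∀ n, orderOf (e (QuotientGroup.mk ⟨g, hg⟩)) ∣ n → g ^ n = 1 ∨ g ^ n = -1 := fun n hn => by
    rw [orderOf_dvd_iff_pow_eq_one, ← map_pow, EmbeddingLike.map_eq_one_iff, ← QuotientGroup.mk_pow,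
      QuotientGroup.eq_one_iff, h.mem_ZP] at hn
    exact hn
  have key2 : ∀ n, Even n → orderOf (e (QuotientGroup.mk ⟨g, hg⟩)) ∣ n / 2 → g ^ n = 1 := by
    rintro _ ⟨m, rfl⟩ hm
    rw [pow_add]
    rcases key m (by rwa [show (m + m) / 2 = m by omega] at hm) with k | k <;> simp [k]
  have := H66.orderOf_psl2_dvd l (e (QuotientGroup.mk ⟨g, hg⟩))
  rw [H66.gcd_two_of_two_ne_zero (two_ne_of_odd hK)] at this
  rcases this with k | k | k
  · exact Or.inr (Or.inr (key _ k))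
  · exact Or.inl (key2 _ (Nat.Odd.sub_odd hK odd_one) k)
  · exact Or.inr (Or.inl (key2 _ (hK.add_odd odd_one) k))

end Cfsg.Agent.DIM4
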