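import Cfsg.Agent.DIM4.SubA
import Cfsg.Agent.H3.SympBasis
import Cfsg.Agent.H9.SpProper
import Cfsg.Agent.H99.ProperSL
import Cfsg.Agent.H77.RatStr
import Cfsg.Agent.H27.TvBasic

/-! The subfield subgroups of `Sp₄(q)`, `q` odd, are maximal. -/

set_option autoImplicit false

namespace Cfsg.Agent.DIM4

open Matrix

open Cfsg.Geo

variable {F : Type*} [Field F] [Fintype F]

omit [Fintype F] in
theorem exists_rat_sim (h2 : (2 : F) ≠ 0) {F₀ : Subfield F} {P : G4 F} {ζ : F} (hζ : ζ ≠ 0)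
    (hP : IsFormRationalStructure (Cfsg.sympForm 2 F) F₀ ζ P) :
    ∃ Q : G4 F₀, P * GeneralLinearGroup.map F₀.subtype Q ∈ similarityGroup (Cfsg.sympForm 2 F) := by
  have e : ∀ (A : M4 F) u v, Cfsg.sympForm 2 F (A *ᵥ u) (A *ᵥ v) =
      u ⬝ᵥ ((Aᵀ * J (Fin 2) F * A) *ᵥ v) := fun A u v => by
    rw [Cfsg.sympForm, ← mulVec_mulVec, ← mulVec_mulVec, dotProduct_mulVec u, vecMul_transpose]
  obtain ⟨A, hA⟩ : ∃ A : M4 F₀, A.map F₀.subtype = ζ • ((P : M4 F)ᵀ * J (Fin 2) F * P) := by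
    refine ⟨fun i j => ⟨(ζ • ((P : M4 F)ᵀ * J (Fin 2) F * P)) i j, ?_⟩, rfl⟩
    have s : ∀ i k : I4, (Pi.single i 1 : I4 → F) k ∈ F₀ := fun i k => by
      rw [Pi.single_apply]; split_ifs <;> simp
    have := hP _ _ (s i) (s j)
    rw [e] at this
    simpa using this
  have inj : Function.Injective fun A : M4 F₀ => A.map F₀.subtype :=
    Matrix.map_injective Subtype.val_injective
  have hT : Aᵀ = -A := inj (by
    change Aᵀ.map _ = (-A).map _
    rw [transpose_map, Matrix.map_neg _ (map_neg _), hA]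
    simp [transpose_mul, Matrix.mul_assoc])
  have hd : A.det ≠ 0 := fun k => by
    have := congrArg det hA
    rw [← RingHom.mapMatrix_apply, ← RingHom.map_det, k, map_zero, det_smul, det_mul, det_mul,
      det_transpose] at this
    exact mul_ne_zero (pow_ne_zero _ hζ) (mul_ne_zero (mul_ne_zero P.det_ne_zero
      (isUnit_det_J _ _).ne_zero) P.det_ne_zero) this.symm
  have ha : (toBilin' A).IsAlt := fun u => by
    have : u ⬝ᵥ A *ᵥ u = -(u ⬝ᵥ A *ᵥ u) := by
      conv_lhs => rw [dotProduct_mulVec, ← mulVec_transpose, hT, neg_mulVec, neg_dotProduct,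
        dotProduct_comm]
    rw [toBilin'_apply']
    refine (mul_eq_zero.1 (show 2 * (u ⬝ᵥ A *ᵥ u) = 0 by linear_combination this)).resolve_left fun k => h2 ?_
    rw [← map_ofNat F₀.subtype 2, k, map_zero]
  obtain ⟨φ, hφ⟩ := H3.exists_isometry_of_isAlt _ _ (H27.sympBilin_isAlt (F := F₀) (m := 2)) ha
    H27.sympBilin_nondegenerate (LinearMap.BilinForm.nondegenerate_toBilin'_iff_det_ne_zero.2 hd) rfl
  set Q := LinearMap.toMatrix' φ.toLinearMap with hQ
  have hJ : Qᵀ * A * Q = J (Fin 2) F₀ := toBilin'.injective (by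
    rw [← toBilin'_comp, hQ, toLin'_toMatrix']
    exact LinearMap.ext₂ hφ)
  have hQd : Q.det ≠ 0 := fun k => (isUnit_det_J (Fin 2) F₀).ne_zero (by
    rw [← hJ, det_mul, k, mul_zero])
  refine ⟨GeneralLinearGroup.mkOfDetNeZero Q hQd, (Units.mk0 ζ hζ)⁻¹, fun u v => ?_⟩
  have := congrArg (fun A : M4 F₀ => A.map F₀.subtype) hJ
  simp only [Matrix.map_mul, hA, map_J, transpose_map, Matrix.mul_smul, Matrix.smul_mul] at this
  rw [e, Cfsg.sympForm]
  conv_rhs => rw [← this, smul_mulVec, dotProduct_smul]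
  simp [hζ, Matrix.mul_assoc]

theorem subfield_max_one (h2 : (2 : F) ≠ 0) {F₀ : Subfield F} (h0 : F₀ ≠ ⊤)
    (hmax : ∀ K : Subfield F, F₀ ≤ K → K = F₀ ∨ K = ⊤) :
    IsMaximalIn (Cfsg.spGL 2 F) (subfieldSubgroup F₀ 1 ⊓ Cfsg.spGL 2 F) := by
  have mem : ∀ g : G4 F, g ∈ subfieldSubgroup F₀ 1 ↔
      ∃ c : F, c ≠ 0 ∧ ∀ i j, c * (g : M4 F) i j ∈ F₀ := fun g => by
    simp [H99.mem_subfieldSubgroup]
  refine ⟨lt_of_le_of_ne inf_le_right fun k => H9.not_sp_le_subfield (by decide) h0 1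
    (inf_eq_right.1 k), fun G h1 h3 => or_iff_not_imp_right.2 fun hne => ?_⟩
  have hG : ∀ A : M4 F, (∀ i j, A i j ∈ F₀) → adj A * A = 1 → InG G A := fun A a b =>
    ⟨spOf A b, h1 ⟨(mem _).2 ⟨1, one_ne_zero, by simpa using a⟩, spOf_mem A b⟩, rfl⟩
  have S : Std G := ⟨h2, h3, h1 ⟨(mem _).2 ⟨1, one_ne_zero, fun i j => by
    rw [one_mul, Units.val_neg, Units.val_one, Matrix.neg_apply, one_apply]
    split_ifs <;> simp⟩, neg_one_mem_spGL⟩⟩
  refine le_antisymm (fun g hg => ⟨(mem g).2 ?_, h3 hg⟩) h1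
  choose c c0 cR using fun i => roots_rat S hmax hG (fun k => hne (le_antisymm h3 k)) _
    (S.conj_mem hg (rr_mem_Rt S hG i))
  have t : (2 : F) ∈ F₀ := by exact_mod_cast natCast_mem F₀ 2
  have b0 : ∀ i, c i * (c 0 * 2) ∈ F₀ := fun i => by
    simpa only [bW_smul_left, bW_smul_right, bW_conj, bW_rr h2] using bW_rat h2 (cR 0) (cR i)
  let T : Submodule F₀ (M4 F) :=
    { carrier := {A | ∀ i j, ((g : M4 F) * A * ((g⁻¹ : G4 F) : M4 F)) i j ∈ F₀}
      add_mem' := fun a b i j => by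
        rw [Matrix.mul_add, Matrix.add_mul]; exact add_mem (a i j) (b i j)
      zero_mem' := fun i j => by simp
      smul_mem' := fun a A b i j => by
        rw [Subfield.smul_def, Matrix.mul_smul, Matrix.smul_mul]; exact mul_mem a.2 (b i j) }
  have mul : ∀ {A B}, A ∈ T → B ∈ T → A * B ∈ T := fun a b i j => by
    rw [← conj_mul, Matrix.mul_apply]; exact sum_mem fun k _ => mul_mem (a i k) (b k j)
  have eT := smul_eW_mem (T := T) (c := c 0) fun i => by
    obtain ⟨x, hx, e⟩ := cR i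
    have : c i • rr F i ∈ T := fun a b => by
      rw [Matrix.mul_smul, Matrix.smul_mul, ← e]; exact cl_entry hx a b
    have := T.smul_mem ⟨_, F₀.div_mem (b0 0) (b0 i)⟩ this
    rw [Subfield.smul_def, smul_smul] at this
    convert this using 2
    have := c0 0
    have := c0 i
    field_simp
  have ee : ∀ i j, eW F i * eW F j ∈ T := fun i j => by
    have := T.smul_mem ⟨_, F₀.div_mem t (b0 0)⟩ (mul (eT i) (eT j))
    rw [Subfield.smul_def, Matrix.smul_mul, Matrix.mul_smul, smul_smul, smul_smul] at this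
    convert this using 1
    have := c0 0
    rw [show 2 / (c 0 * (c 0 * 2)) * c 0 * c 0 = 1 by field_simp, one_smul]
  have E0 : single (.inl 0) (.inl 0) 1 ∈ T := by
    convert T.neg_mem (mul (ee 1 2) (ee 3 4)) using 1
    simp only [cl_apply, fromBlocks_multiply]
    ext (i | i) (j | j) <;> fin_cases i <;> fin_cases j <;> simp
  have E : ∀ a, single a (.inl 0) 1 ∈ T := by
    rintro (a | a) <;> fin_cases a
    · exact E0
    · convert T.neg_mem (mul (ee 0 2) E0) using 1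
      simp only [cl_apply, fromBlocks_multiply]
      ext (i | i) (j | j) <;> fin_cases i <;> fin_cases j <;> simp
    · convert T.neg_mem (mul (ee 2 4) E0) using 1
      simp only [cl_apply, fromBlocks_multiply]
      ext (i | i) (j | j) <;> fin_cases i <;> fin_cases j <;> simp
    · convert mul (ee 0 4) E0 using 1
      simp only [cl_apply, fromBlocks_multiply]
      ext (i | i) (j | j) <;> fin_cases i <;> fin_cases j <;> simp
  obtain ⟨j, hj⟩ : ∃ j, ((g⁻¹ : G4 F) : M4 F) (.inl 0) j ≠ 0 := by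
    by_contra! hn
    have := congrFun (congrFun (Units.inv_mul g) (.inl 0)) (.inl 0)
    simp [Matrix.mul_apply, hn, -Matrix.coe_units_inv] at this
  refine ⟨_, hj, fun i a => ?_⟩
  have := E a i j
  rw [Matrix.mul_apply, Finset.sum_eq_single (.inl 0) (fun b _ hb => by
    rw [mul_single_apply_of_ne _ _ _ _ _ hb, zero_mul]) (by simp), mul_single_apply_same,
    mul_one, mul_comm] at this
  exact this

theorem subfield_max (h2 : (2 : F) ≠ 0) (F₀ : Subfield F) (r : ℕ) (P : G4 F) (ζ : F)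
    (hr : r.Prime) (hc : Fintype.card F = Nat.card F₀ ^ r) (hζ : ζ ≠ 0)
    (hP : IsFormRationalStructure (Cfsg.sympForm 2 F) F₀ ζ P) :
    IsMaximalIn (Cfsg.spGL 2 F) (subfieldSubgroup F₀ P ⊓ Cfsg.spGL 2 F) := by
  obtain ⟨Q, hQ⟩ := exists_rat_sim h2 hζ hP
  have := H27.isMaximalIn_comap (MulAut.conj (P * GeneralLinearGroup.map F₀.subtype Q)⁻¹)
    (subfield_max_one h2 (H98.subfield_ne_top_of_prime hr hc) fun K hK =>
      (H77.subring_dichotomy hr hc K.toSubring hK).imp (fun k => le_antisymm k hK)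
        fun k => eq_top_iff.2 fun x _ => k x)
  have e : (Cfsg.spGL 2 F).comap (MulAut.conj (P * GeneralLinearGroup.map F₀.subtype Q)⁻¹ :
      G4 F →* G4 F) = Cfsg.spGL 2 F := by
    ext g
    refine ⟨fun k => ?_, H9.conj_mem_spGL_of_sim (inv_mem hQ)⟩
    simpa [mul_assoc] using H9.conj_mem_spGL_of_sim hQ k
  rw [Subgroup.comap_inf, e] at this
  convert this using 2
  ext g
  have q : GeneralLinearGroup.map F₀.subtype Q ∈
      (GeneralLinearGroup.map (F₀.subtype : F₀ →+* F)).range ⊔ scalars I4 F :=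
    Subgroup.mem_sup_left ⟨Q, rfl⟩
  rw [Subgroup.mem_comap, subfieldSubgroup, subfieldSubgroup, H99.mem_map_conj, H99.mem_map_conj,
    ← Subgroup.mul_mem_cancel_left _ (inv_mem q), ← Subgroup.mul_mem_cancel_right _ q]
  simp [mul_assoc]

end Cfsg.Agent.DIM4
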