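import Cfsg.Agent.DIM4.UForm
import Cfsg.Agent.DIM4.UFull
import Cfsg.Agent.DIM4.Triple
import Cfsg.Agent.DIM4.Frame

/-! Overgroups of `Sp₄(F₀)`: all roots are rational up to a scalar. -/

set_option autoImplicit false

namespace Cfsg.Agent.DIM4

open Matrix

open Cfsg.Geo

variable {F : Type*} [Field F] [Fintype F]

/-- The basis vectors of `W`. -/
abbrev eW (F : Type*) [Field F] (i : Fin 5) : M4 F := cl (Pi.single i 1)

/-- Five rational roots spanning `W`. -/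
def rr (F : Type*) [Field F] (i : Fin 5) : M4 F := if i = 0 then eW F 0 else eW F 0 + eW F i

omit [Fintype F]

theorem cl_entry {F₀ : Subfield F} {x : Fin 5 → F} (hx : ∀ i, x i ∈ F₀) (i j : I4) :
    cl x i j ∈ F₀ := by
  rcases i with i | i <;> rcases j with j | j <;> fin_cases i <;> fin_cases j <;>
    simp [cl_apply, hx]

theorem ratW_of_bW (h2 : (2 : F) ≠ 0) {F₀ : Subfield F} {v : M4 F} (hv : v ∈ Wsp F)
    (h : ∀ i, bW v (eW F i) ∈ F₀) : v ∈ RatW F₀ := by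
  obtain ⟨x, rfl⟩ := exists_cl h2 hv
  have h0 := h 0
  have h1 := h 1
  have h2' := h 2
  have h3 := h 3
  have h4 := h 4
  simp [bW_cl h2] at h0 h1 h2' h3 h4
  refine ⟨x, fun i => ?_, rfl⟩
  fin_cases i
  · simpa [h2] using F₀.div_mem h0 (show (2 : F) ∈ F₀ by exact_mod_cast natCast_mem F₀ 2)
  all_goals assumption

theorem bW_rat (h2 : (2 : F) ≠ 0) {F₀ : Subfield F} {v w : M4 F} (hv : v ∈ RatW F₀)
    (hw : w ∈ RatW F₀) : bW v w ∈ F₀ := by
  obtain ⟨x, hx, rfl⟩ := hv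
  obtain ⟨y, hy, rfl⟩ := hw
  have t : (2 : F) ∈ F₀ := by exact_mod_cast natCast_mem F₀ 2
  rw [bW_cl h2]
  exact sub_mem (sub_mem (add_mem (add_mem (mul_mem (mul_mem t (hx _)) (hy _))
    (mul_mem (hx _) (hy _))) (mul_mem (hx _) (hy _))) (mul_mem (hx _) (hy _)))
    (mul_mem (hx _) (hy _))

theorem rr_eq (i : Fin 5) : rr F i = cl (if i = 0 then Pi.single 0 1 else
    Pi.single 0 1 + Pi.single i 1) := by
  rw [rr]; split_ifs <;> simp

theorem bW_rr (h2 : (2 : F) ≠ 0) (i : Fin 5) : bW (rr F 0) (rr F i) = 2 := by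
  rw [rr_eq, rr_eq, bW_cl h2]; fin_cases i <;> simp

theorem rr_sq (h2 : (2 : F) ≠ 0) (i : Fin 5) : rr F i * rr F i = 1 := by
  rw [rr_eq, mul_self h2 (cl_mem _), qW_cl h2]; fin_cases i <;> simp

theorem smul_eW_mem {R : Type*} [Ring R] [Module R (M4 F)] {T : Submodule R (M4 F)} {c : F}
    (h : ∀ i, c • rr F i ∈ T) (i : Fin 5) : c • eW F i ∈ T := by
  by_cases hi : i = 0
  · subst hi; simpa [rr] using h 0
  · have := T.sub_mem (h i) (h 0)
    rwa [← smul_sub, rr, rr, if_neg hi, if_pos rfl, add_sub_cancel_left] at this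

theorem conn_rr (h2 : (2 : F) ≠ 0) : Conn (Set.range (rr F)) := by
  rintro T hT ⟨_, ⟨i, rfl⟩, hi⟩
  have h0 : rr F 0 ∈ T := (T.smul_mem_iff h2).1 (by
    simpa only [bW_comm (rr F i), bW_rr h2] using hT _ ⟨0, rfl⟩ _ hi)
  have h1 : ∀ j, (2 : F) • rr F j ∈ T := fun j => by
    simpa only [bW_rr h2] using hT _ ⟨j, rfl⟩ _ h0
  intro v hv
  obtain ⟨x, rfl⟩ := exists_cl h2 hv
  rw [← Finset.univ_sum_single x, map_sum]
  refine T.sum_mem fun j _ => ?_
  rw [show Pi.single j (x j) = x j • (Pi.single j (1 : F) : Fin 5 → F) by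
    rw [← Pi.single_smul, smul_eq_mul, mul_one], map_smul]
  exact T.smul_mem _ ((T.smul_mem_iff h2).1 (smul_eW_mem h1 j))

theorem cl_mem_Rt {G : Subgroup (G4 F)} (S : Std G) {F₀ : Subfield F}
    (hG : ∀ A : M4 F, (∀ i j, A i j ∈ F₀) → adj A * A = 1 → InG G A) {x : Fin 5 → F}
    (hx : ∀ i, x i ∈ F₀) (hq : cl x * cl x = 1) : cl x ∈ Rt G :=
  ⟨cl_mem x, hq, hG _ (cl_entry hx) (by rw [(cl_mem x).1, hq])⟩

theorem rr_mem_Rt {G : Subgroup (G4 F)} (S : Std G) {F₀ : Subfield F}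
    (hG : ∀ A : M4 F, (∀ i j, A i j ∈ F₀) → adj A * A = 1 → InG G A) (i : Fin 5) :
    rr F i ∈ Rt G := by
  have := rr_sq S.two i
  rw [rr_eq] at this ⊢
  exact cl_mem_Rt S hG (fun j => by fin_cases i <;> fin_cases j <;> simp) this

/-- An orthogonal frame in characteristic three. -/
def fr3 (F : Type*) [Field F] : Fin 5 → Fin 5 → F :=
  ![![1, 0, 0, 0, 0], ![0, 1, 1, 0, 0], ![0, 0, 0, 1, -1], ![0, 1, -1, 1, 1], ![0, 1, -1, -1, -1]]

theorem roots_rat3 {G : Subgroup (G4 F)} (S : Std G) {F₀ : Subfield F} (h3 : (3 : F) = 0)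
    (hG : ∀ A : M4 F, (∀ i j, A i j ∈ F₀) → adj A * A = 1 → InG G A) (ht : Tame (Rt G)) :
    ∀ x ∈ Rt G, ∃ c : F, c ≠ 0 ∧ c • x ∈ RatW F₀ := by
  have h2 := S.two
  have t : (2 : F) = -1 := by linear_combination h3
  obtain ⟨χ, hχ⟩ := ht.colour
  obtain ⟨T, N⟩ := ht.cls hχ (χ (rr F 0))
  have r := rr_mem_Rt S hG
  have rc : ∀ i, χ (rr F i) = χ (rr F 0) := fun i =>
    ((hχ _ (r 0) _ (r i) (by rwa [bW_rr h2])).2 (by rw [bW_rr h2]; exact Col.four_ne_two h2)).symm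
  have C := (conn_rr h2).mono h2 (Set.range_nonempty _) (D' := {x | x ∈ Rt G ∧ χ x = χ (rr F 0)})
    (by rintro _ ⟨i, rfl⟩; exact ⟨r i, rc i⟩) fun x hx => ⟨hx.1.1, S.rs.ne_zero hx.1⟩
  have fq : ∀ i j, fr3 F i j ∈ F₀ := fun i j => by fin_cases i <;> fin_cases j <;> simp [fr3]
  have fR : ∀ i, cl (fr3 F i) ∈ Rt G := fun i => cl_mem_Rt S hG (fq i) (by
    rw [mul_self h2 (cl_mem _), qW_cl h2, ← one_smul F (1 : M4 F), smul_smul, mul_one]
    congr 1
    fin_cases i <;> simp [fr3] <;> linear_combination -h3)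
  have O : Orth {x | x ∈ Rt G ∧ χ x = χ (rr F 0)} fun i => cl (fr3 F i) := by
    refine ⟨fun i => ⟨fR i, ?_⟩, fun i j hij => ?_⟩
    · obtain ⟨j, hj⟩ : ∃ j, bW (cl (fr3 F i)) (rr F j) ^ 2 = 1 := by
        refine ⟨![0, 1, 3, 1, 1] i, ?_⟩
        rw [rr_eq, bW_cl h2]
        fin_cases i <;> simp [fr3, t]
      exact ((hχ _ (fR i) _ (r j) fun e => by simp [e] at hj).2
        (by rw [hj]; exact Col.one_ne_two')).trans (rc j)
    · rw [bW_cl h2]
      fin_cases i <;> fin_cases j <;> simp [fr3] at hij ⊢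
  have key : ∀ (x : M4 F) (c : F), x ∈ Rt G → (∀ i, c * bW x (cl (fr3 F i)) ∈ F₀) →
      c • x ∈ RatW F₀ := fun x c hx hc => ratW_of_bW h2 ((Wsp F).smul_mem c hx.1) fun i => by
    have e := O.parseval T.toRS hx.1 (eW F i)
    rw [bW_smul_left, show c * bW x (eW F i) = -(c * (2 * bW x (eW F i))) by rw [t]; ring, e,
      Finset.mul_sum]
    refine neg_mem (sum_mem fun j _ => ?_)
    rw [← mul_assoc]
    exact mul_mem (hc j) (bW_rat h2 ⟨_, fun k => by fin_cases i <;> fin_cases k <;> simp, rfl⟩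
      ⟨_, fq j, rfl⟩)
  intro x hx
  by_cases hc : χ x = χ (rr F 0)
  · refine ⟨1, one_ne_zero, key x 1 hx fun i => ?_⟩
    rcases (T.frame N C O).2.1 x ⟨hx, hc⟩ i with e | e | e <;> simp [e]
  · have sq : ∀ i, bW x (cl (fr3 F i)) ≠ 0 → bW x (cl (fr3 F i)) ^ 2 = 2 := fun i h0 => by
      by_contra e
      exact hc (((hχ _ hx _ (fR i) h0).2 e).trans (O.1 i).2)
    obtain ⟨j, hj⟩ : ∃ j, bW x (cl (fr3 F j)) ≠ 0 := by
      by_contra! hn
      exact S.rs.ne_zero hx (by rw [O.expand T.toRS hx.1]; simp [hn])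
    refine ⟨_, hj, key x _ hx fun i => ?_⟩
    by_cases hi : bW x (cl (fr3 F i)) = 0
    · simp [hi]
    · rcases sq_eq_sq_iff_eq_or_eq_neg.1 ((sq i hi).trans (sq j hj).symm) with e | e
      · rw [e, ← pow_two, sq j hj, t]; simp
      · rw [e, mul_neg, ← pow_two, sq j hj, t]; simp

theorem roots_rat [Fintype F] {G : Subgroup (G4 F)} (S : Std G) {F₀ : Subfield F}
    (hmax : ∀ K : Subfield F, F₀ ≤ K → K = F₀ ∨ K = ⊤)
    (hG : ∀ A : M4 F, (∀ i j, A i j ∈ F₀) → adj A * A = 1 → InG G A)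
    (hne : ¬ Cfsg.spGL 2 F ≤ G) : ∀ x ∈ Rt G, ∃ c : F, c ≠ 0 ∧ c • x ∈ RatW F₀ := by
  have h2 := S.two
  have r := rr_mem_Rt S hG
  have ne : (Rt G).Nonempty := ⟨_, r 0⟩
  have C : Conn (Rt G) := (conn_rr h2).mono h2 (Set.range_nonempty _)
    (by rintro _ ⟨i, rfl⟩; exact r i) fun x hx => ⟨hx.1, S.rs.ne_zero hx⟩
  have top : ∀ {s y : M4 F}, Eich s y → ¬ ∀ v ∈ Wsp F, bW s v = 0 → InG G (1 + s * v) :=
    fun e k => by
      obtain ⟨x, hx, hb⟩ := C.exists_ne h2 ne e.sW e.ne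
      exact hne (sp_le_of_eich S e.sW e.sq hx hb k)
  by_cases hμ : ∃ μ ∈ F₀, μ ≠ 0 ∧ μ ≠ 1 ∧ μ ≠ -1
  · obtain ⟨μ, m, μ0, μ1, μ2⟩ := hμ
    have ss : eW F 1 * eW F 1 = 0 := by rw [mul_self h2 (cl_mem _), qW_cl h2]; simp
    have sy : bW (eW F 1) (eW F 0) = 0 := by rw [bW_cl h2]; simp
    have e : Eich (eW F 1) (eW F 0) := ⟨cl_mem _, cl_mem _, fun k => by
      simpa using congrFun (cl_injective (k.trans (map_zero cl).symm)) 1, ss, sy, by
      rw [qW_cl h2]; simp⟩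
    have mm : ∀ a ∈ F₀, InG G (1 + a • (eW F 1 * eW F 0)) := fun a ha => by
      refine hG _ (fun i j => ?_) ?_
      · rcases i with i | i <;> rcases j with j | j <;> fin_cases i <;> fin_cases j <;>
          simp [cl_apply, fromBlocks_multiply, ha]
      · rw [← Matrix.mul_smul]
        exact eich_sp h2 (cl_mem _) ss ((Wsp F).smul_mem a (cl_mem _))
          (by rw [bW_smul_right, sy, mul_zero])
    obtain ⟨K, β, L, -, k1, hβ, -, hb, hx, hK⟩ := uform S C ne e μ0 μ1 μ2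
      (by simpa using mm 1 F₀.one_mem) (mm μ m)
    obtain rfl : K = F₀ := (hmax K fun a ha => (k1 a).1 (mm a ha)).resolve_right fun k =>
      top e (hK k)
    choose c c0 cL using fun i => hx _ (r i)
    have t : (2 : F) ∈ K := by exact_mod_cast natCast_mem K 2
    have b0 : ∀ i, c i * (c 0 * 2) / β ∈ K := fun i => by
      simpa only [bW_smul_left, bW_smul_right, bW_rr h2] using hb _ (cL 0) _ (cL i)
    have eL := smul_eW_mem (T := L) (c := c 0) fun i => by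
      have := L.smul_mem ⟨_, K.div_mem (b0 0) (b0 i)⟩ (cL i)
      rw [Subfield.smul_def, smul_smul] at this
      convert this using 2
      have := c0 0
      have := c0 i
      field_simp
    intro x hx'
    obtain ⟨d, d0, dL⟩ := hx x hx'
    refine ⟨d / c 0, div_ne_zero d0 (c0 0), ratW_of_bW h2 ((Wsp F).smul_mem _ hx'.1) fun i => ?_⟩
    have := K.mul_mem t (K.div_mem (hb _ dL _ (eL i)) (b0 0))
    rw [bW_smul_left, bW_smul_right] at this
    rw [bW_smul_left]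
    convert this using 1
    have := c0 0
    field_simp
  · push Not at hμ
    have h3 : (3 : F) = 0 := by
      have := hμ 2 (by exact_mod_cast natCast_mem F₀ 2) h2 (Ne.symm Col.one_ne_two')
      linear_combination this
    refine roots_rat3 S h3 hG (tame S ?_ C)
    rintro ⟨s, y, e, μ, μ0, μ1, μ2, m1, m2⟩
    obtain ⟨K, β, L, m, -, -, -, -, -, hK⟩ := uform S C ne e μ0 μ1 μ2 m1 m2
    rcases hmax K fun a ha => by
      by_cases a0 : a = 0
      · exact a0 ▸ K.zero_mem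
      by_cases a1 : a = 1
      · exact a1 ▸ K.one_mem
      · exact hμ a ha a0 a1 ▸ K.neg_mem K.one_mem with rfl | k
    · exact μ2 (hμ μ m μ0 μ1)
    · exact top e (hK k)

end Cfsg.Agent.DIM4
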